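import Cfsg.Agent.Lib.ChevStructure.Instances
import Cfsg.Agent.Lib.ChevStructure.Words

/-!
The root elements of the fundamental roots and of their negatives generate the Chevalley group.
-/

set_option autoImplicit false
set_option linter.unusedSectionVars false

namespace Cfsg.Agent.Lib.ChevAut

open Cfsg.Lie Cfsg.Agent.Lib.ChevStructure
open scoped MatrixGroups Matrix

variable {D : ChevalleyDatum} (C : Core D) (F : Type*) [Field F]

/-- The root element as an element of the group. -/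
def GX (r : Rt D) (t : F) : ↥(D.group F) :=
  ⟨C.X F r t, Subgroup.subset_closure ⟨r, t, by
    show ((C.X F r t : GL D.Idx F) : Matrix D.Idx D.Idx F) = _
    rw [C.X_val_x, ChevalleyDatum.x, dif_pos r.isLt]⟩⟩

theorem GX_val (r : Rt D) (t : F) : ((GX C F r t : ↥(D.group F)) : GL D.Idx F) = C.X F r t := rfl

theorem GX_mat (r : Rt D) (t : F) :
    ((GX C F r t : GL D.Idx F) : Matrix D.Idx D.Idx F) = D.x F r.val t := C.X_val_x r t

theorem eq_GX {g : ↥(D.group F)} {r : Rt D} {t : F}
    (h : ((g : GL D.Idx F) : Matrix D.Idx D.Idx F) = D.x F r.val t) : g = GX C F r t :=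
  Subtype.ext (C.eq_X h)

theorem closure_GX :
    Subgroup.closure (Set.range fun p : Rt D × F => GX C F p.1 p.2) = ⊤ := by
  apply Subgroup.map_injective (D.group F).subtype_injective
  rw [MonoidHom.map_closure, ← MonoidHom.range_eq_map, Subgroup.range_subtype]
  unfold ChevalleyDatum.group
  congr 1
  ext g
  constructor
  · rintro ⟨_, ⟨⟨r, t⟩, rfl⟩, rfl⟩
    exact ⟨r, t, by show ((C.X F r t : GL D.Idx F) : Matrix D.Idx D.Idx F) = _; rw [C.X_val_x, ChevalleyDatum.x, dif_pos r.isLt]⟩
  · rintro ⟨r, t, hg⟩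
    refine ⟨GX C F r t, ⟨(r, t), rfl⟩, ?_⟩
    exact (C.eq_X (by rw [hg, ChevalleyDatum.x, dif_pos r.isLt])).symm

/-- n_p as an element of the group. -/
def GP (i : Fin D.rank) : ↥(D.group F) :=
  GX C F (C.p i) 1 * GX C F (C.p i).rev (-1) * GX C F (C.p i) 1

theorem GP_val (i : Fin D.rank) : ((GP C F i : ↥(D.group F)) : GL D.Idx F) = C.P F i := by
  simp [GP, Core.P, Core.nR, GX_val]

theorem GP_GX (i : Fin D.rank) (r : Rt D) (t : F) :
    GP C F i * GX C F r t * (GP C F i)⁻¹ = GX C F (C.w i r) ((C.η i r : F) * t) := by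
  apply Subtype.ext
  simp only [Subgroup.coe_mul, Subgroup.coe_inv, GP_val, GX_val, C.P_X_conj]

/-- A subgroup containing the root elements of the fundamental roots and their negatives is everything. -/
theorem eq_top {M : Subgroup ↥(D.group F)}
    (hp : ∀ i t, GX C F (C.p i) t ∈ M) (hn : ∀ i t, GX C F (C.p i).rev t ∈ M) : M = ⊤ := by
  rw [eq_top_iff, ← closure_GX C F, Subgroup.closure_le]
  rintro _ ⟨⟨r, t⟩, rfl⟩
  refine C.ind (fun r => ∀ t : F, GX C F r t ∈ M) hp ?_ r t
  intro i r ih t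
  have hP : GP C F i ∈ M := mul_mem (mul_mem (hp i 1) (hn i (-1))) (hp i 1)
  have e : t = (C.η i r : F) * ((C.η i r : F) * t) := by
    rw [← mul_assoc, ← Int.cast_mul, C.η_mul_self, Int.cast_one, one_mul]
  rw [e, ← GP_GX]
  exact mul_mem (mul_mem hP (ih _)) (inv_mem hP)

theorem hom_ext {H : Type*} [Group H] {f g : ↥(D.group F) →* H}
    (hp : ∀ i t, f (GX C F (C.p i) t) = g (GX C F (C.p i) t))
    (hn : ∀ i t, f (GX C F (C.p i).rev t) = g (GX C F (C.p i).rev t)) (y : ↥(D.group F)) : f y = g y := by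
  have h := eq_top C F (M := f.eqLocus g) hp hn
  exact (show y ∈ f.eqLocus g by rw [h]; trivial)

end Cfsg.Agent.Lib.ChevAut
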