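import Cfsg.Agent.Lib.ChevAut.Tables
import Cfsg.Agent.Lib.ChevAut.Simple
import Cfsg.Agent.Lib.ChevStructure.CommGL
import Cfsg.Agent.Lib.ChevStructure.BN

/-!
The diagonal automorphism attached to values on the fundamental roots, and the field automorphism of
a ring automorphism of the field.
-/

set_option autoImplicit false
set_option linter.unusedSectionVars false

namespace Cfsg.Agent.Lib.ChevAut

open Cfsg.Lie Cfsg.Agent.Lib.ChevStructure
open scoped MatrixGroups Matrix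

variable {D : ChevalleyDatum} (C : Core D) {F : Type*} [Field F]
include C

theorem group_le_of_X {M : Subgroup (GL D.Idx F)} (h : ∀ r t, C.X F r t ∈ M) : D.group F ≤ M := by
  rw [← C.sup_UV]
  unfold ChevalleyDatum.posUnipotent ChevalleyDatum.negUnipotent
  refine sup_le ((Subgroup.closure_le _).2 ?_) ((Subgroup.closure_le _).2 ?_) <;>
    rintro g ⟨r, t, hr, hg⟩ <;> rw [C.eq_X (r := ⟨r, hr.1⟩) hg] <;> exact h _ _

theorem chr_inv (χ : Fin D.rank → Fˣ) (s : Rt D) : C.chr F χ⁻¹ s = (C.chr F χ s)⁻¹ := by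
  simp [Core.chr, Finset.prod_inv_distrib]

theorem T_inv (χ : Fin D.rank → Fˣ) : (C.T F χ)⁻¹ = C.T F χ⁻¹ := by
  rw [Core.T, Core.T, C.diag_inv]
  congr 1
  funext s
  rw [Pi.inv_apply, chr_inv C]

theorem T_conj_mem (χ : Fin D.rank → Fˣ) {y : GL D.Idx F} (hy : y ∈ D.group F) :
    C.T F χ * y * (C.T F χ)⁻¹ ∈ D.group F := by
  have hle : D.group F ≤ (D.group F).comap (MulAut.conj (C.T F χ)).toMonoidHom := by
    refine group_le_of_X C fun r t => ?_
    show C.T F χ * C.X F r t * (C.T F χ)⁻¹ ∈ D.group F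
    rw [C.T_X_conj]
    exact C.X_mem_group _ _
  exact hle hy

/-- conjugation by T(χ) on the group -/
def diagAut (χ : Fin D.rank → Fˣ) : ↥(D.group F) ≃* ↥(D.group F) where
  toFun y := ⟨C.T F χ * y * (C.T F χ)⁻¹, T_conj_mem C χ y.2⟩
  invFun y := ⟨(C.T F χ)⁻¹ * y * C.T F χ, by
    have h := T_conj_mem C χ⁻¹ y.2
    rwa [← T_inv C, inv_inv] at h⟩
  left_inv y := Subtype.ext (by simp [mul_assoc])
  right_inv y := Subtype.ext (by simp [mul_assoc])
  map_mul' a b := Subtype.ext (by simp [mul_assoc])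

theorem diagAut_GX (χ : Fin D.rank → Fˣ) (r : Rt D) (t : F) :
    diagAut C χ ⟨C.X F r t, C.X_mem_group _ _⟩ =
      ⟨C.X F r ((C.chr F χ r : F) * t), C.X_mem_group _ _⟩ :=
  Subtype.ext (C.T_X_conj F χ r t)

theorem isDiagonalAut_diagAut (hh : headsOK D = true) (χ : Fin D.rank → Fˣ) :
    D.IsDiagonalAut (diagAut C χ (F := F)) := by
  refine ⟨fun r => if h : r < D.nroots then C.chr F χ ⟨r, h⟩ else 1, ⟨fun r hr => ?_, fun r s k hr hs hk => ?_⟩,
    fun g => ?_⟩
  · have hn : D.neg r = (⟨r, hr⟩ : Rt D).rev.val := C.neg_val ⟨r, hr⟩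
    simp only [hn, Fin.is_lt, dite_true, hr]
    exact C.chr_rev F χ ⟨r, hr⟩
  · unfold ChevalleyDatum.chainRoot at hk
    rw [Option.map_eq_some_iff] at hk
    obtain ⟨⟨k', M⟩, he, rfl⟩ := hk
    obtain ⟨hlt, hM⟩ := head_spec hh hr he
    have hne : chM D 1 ⟨r, hr⟩ ⟨s, hs⟩ ⟨k', hlt⟩ ≠ 0 := by
      rw [C.chM_entry]
      simp only [show (1 : ℕ) - 1 = 0 from rfl] at he
      rw [he]
      simpa using hM
    have hv := (C.chM_tgt 0 ⟨r, hr⟩ ⟨s, hs⟩ ⟨k', hlt⟩ hne).2
    simp only [hlt, hr, hs, dite_true]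
    simp only [Core.chr, ← Finset.prod_mul_distrib, ← zpow_add, hv]
    refine Finset.prod_congr rfl fun m _ => ?_
    congr 1
    simp [add_comm]
  · have e1 : ((C.T F χ : GL D.Idx F) : Matrix D.Idx D.Idx F) =
        D.charDiag F (fun r => if h : r < D.nroots then C.chr F χ ⟨r, h⟩ else 1) := by
      simp only [Core.T, Core.diag, ChevalleyDatum.charDiag]
      congr 1
      funext a
      rcases a with a | a <;> simp
    have e2 : (((C.T F χ)⁻¹ : GL D.Idx F) : Matrix D.Idx D.Idx F) =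
        D.charDiag F (fun r => ((if h : r < D.nroots then C.chr F χ ⟨r, h⟩ else 1))⁻¹) := by
      rw [T_inv C]
      simp only [Core.T, Core.diag, ChevalleyDatum.charDiag, chr_inv C]
      congr 1
      funext a
      rcases a with a | a <;> simp
    show ((C.T F χ * (g : GL D.Idx F) * (C.T F χ)⁻¹ : GL D.Idx F) : Matrix D.Idx D.Idx F) = _
    rw [Units.val_mul, Units.val_mul, e1, e2]

theorem field_conj_mem (σ : F →+* F) {y : GL D.Idx F} (hy : y ∈ D.group F) :
    Matrix.GeneralLinearGroup.map σ y ∈ D.group F := by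
  have hle : D.group F ≤ (D.group F).comap (Matrix.GeneralLinearGroup.map (n := D.Idx) σ) := by
    refine group_le_of_X C fun r t => ?_
    rw [Subgroup.mem_comap, C.X_map]
    exact C.X_mem_group _ _
  exact hle hy

/-- the automorphism of the group induced by a field automorphism -/
def fieldAut (σ : F ≃+* F) : ↥(D.group F) ≃* ↥(D.group F) where
  toFun y := ⟨Matrix.GeneralLinearGroup.map σ.toRingHom y, field_conj_mem C σ.toRingHom y.2⟩
  invFun y := ⟨Matrix.GeneralLinearGroup.map σ.symm.toRingHom y, field_conj_mem C σ.symm.toRingHom y.2⟩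
  left_inv y := by
    apply Subtype.ext; apply Units.ext; ext a b
    simp [Matrix.GeneralLinearGroup.map_apply]
  right_inv y := by
    apply Subtype.ext; apply Units.ext; ext a b
    simp [Matrix.GeneralLinearGroup.map_apply]
  map_mul' a b := Subtype.ext (map_mul _ _ _)

theorem fieldAut_GX (σ : F ≃+* F) (r : Rt D) (t : F) :
    fieldAut C σ ⟨C.X F r t, C.X_mem_group _ _⟩ = ⟨C.X F r (σ t), C.X_mem_group _ _⟩ :=
  Subtype.ext (C.X_map F σ.toRingHom r t)

theorem isFieldAut_fieldAut (σ : F ≃+* F) : D.IsFieldAut (fieldAut C σ) := by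
  refine ⟨σ, fun g r t hr hg => ?_⟩
  have e : g = ⟨C.X F (⟨r, hr⟩ : Rt D) t, C.X_mem_group _ _⟩ := Subtype.ext (C.eq_X hg)
  subst e
  rw [fieldAut_GX C]
  exact C.X_val_x ⟨r, hr⟩ (σ t)

end Cfsg.Agent.Lib.ChevAut
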