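import Cfsg.Agent.Lib.ChevAut.Tables

/-!
An enumeration of the permutations of the nodes which preserve adjacency.
-/

set_option autoImplicit false
set_option maxRecDepth 100000

namespace Cfsg.Agent.Lib.ChevAut

open Cfsg.Lie

variable (D : ChevalleyDatum)

/-- adjacency at the level of numbers -/
def adj0 (i j : ℕ) : Bool := decide (D.cartan i (D.simple j) = 0)

/-- may v be the image of node k when the earlier nodes go to the entries of L -/
def candOK (L : List (Fin D.rank)) (k : ℕ) (v : Fin D.rank) : Bool :=
  (List.range L.length).all fun j =>
    match L[j]? with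
    | some w => decide (v ≠ w) && (adj0 D k j == adj0 D v.val w.val) && (adj0 D j k == adj0 D w.val v.val)
    | none => true

/-- the partial images of the first k nodes -/
def partialPerms : ℕ → List (List (Fin D.rank))
  | 0 => [[]]
  | k + 1 => (partialPerms k).flatMap fun L =>
      ((List.finRange D.rank).filter (candOK D L k)).map fun v => L ++ [v]

theorem mem_partialPerms {π : Equiv.Perm (Fin D.rank)} (h : AdjPerm D π) :
    ∀ k, k ≤ D.rank → (List.ofFn fun i => π i).take k ∈ partialPerms D k
  | 0, _ => by simp [partialPerms]
  | k + 1, hk => by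
    have hkr : k < D.rank := hk
    have ih := mem_partialPerms h k hkr.le
    simp only [partialPerms, List.mem_flatMap, List.mem_map, List.mem_filter]
    refine ⟨_, ih, π ⟨k, hkr⟩, ⟨List.mem_finRange _, ?_⟩, ?_⟩
    · simp only [candOK, List.all_eq_true, List.mem_range, List.length_take, List.length_ofFn]
      intro j hj
      have hjk : j < k := lt_of_lt_of_le hj (min_le_left _ _)
      have hget : ((List.ofFn fun i => π i).take k)[j]? = some (π ⟨j, hjk.trans hkr⟩) := by
        rw [List.getElem?_take_of_lt hjk]
        simp [hjk.trans hkr]
      simp only [hget, Bool.and_eq_true, decide_eq_true_eq]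
      have hne : (⟨k, hkr⟩ : Fin D.rank) ≠ ⟨j, hjk.trans hkr⟩ := fun e => by
        simp at e; omega
      refine ⟨⟨fun e => hne (π.injective e), ?_⟩, ?_⟩
      · have := h ⟨k, hkr⟩ ⟨j, hjk.trans hkr⟩ hne
        simp only [cart] at this
        simp only [adj0, beq_iff_eq, decide_eq_decide]
        exact this
      · have := h ⟨j, hjk.trans hkr⟩ ⟨k, hkr⟩ hne.symm
        simp only [cart] at this
        simp only [adj0, beq_iff_eq, decide_eq_decide]
        exact this
    · rw [List.take_succ_eq_append_getElem (by simpa using hkr)]
      simp

/-- At most as many adjacency preserving permutations as full lists in the enumeration. -/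
theorem card_adjPerm_le {n : ℕ} (hn : (partialPerms D D.rank).length ≤ n) :
    Nat.card {π : Equiv.Perm (Fin D.rank) // AdjPerm D π} ≤ n := by
  classical
  let f : {π : Equiv.Perm (Fin D.rank) // AdjPerm D π} → {L // L ∈ (partialPerms D D.rank).toFinset} := fun π =>
    ⟨List.ofFn fun i => π.1 i, List.mem_toFinset.2 (by
      have := mem_partialPerms D π.2 D.rank le_rfl
      rwa [List.take_of_length_le (by simp)] at this)⟩
  have hf : Function.Injective f := fun a b e => Subtype.ext (Equiv.ext fun i => by
    exact congrFun (List.ofFn_injective (congrArg Subtype.val e)) i)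
  refine (Nat.card_le_card_of_injective f hf).trans ?_
  rw [Nat.card_eq_fintype_card, Fintype.card_coe]
  exact (List.toFinset_card_le _).trans hn

theorem enum_G2 : (partialPerms chevG2 chevG2.rank).length ≤ 2 := by decide +kernel
theorem enum_B2 : (partialPerms chevB2 chevB2.rank).length ≤ 2 := by decide +kernel
theorem enum_F4 : (partialPerms chevF4 chevF4.rank).length ≤ 2 := by decide +kernel
theorem enum_D4 : (partialPerms chevD4 chevD4.rank).length ≤ 6 := by decide +kernel
theorem enum_E6 : (partialPerms chevE6 chevE6.rank).length ≤ 2 := by decide +kernel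
theorem enum_E7 : (partialPerms chevE7 chevE7.rank).length ≤ 1 := by decide +kernel
theorem enum_E8 : (partialPerms chevE8 chevE8.rank).length ≤ 1 := by decide +kernel

end Cfsg.Agent.Lib.ChevAut
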