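import Cfsg.Agent.Lib.ChevAut.OutDiag
import Cfsg.Agent.Lib.LieTwisted.GraphData

/-!
Families of graph automorphisms for the tabulated Chevalley data.
-/

set_option autoImplicit false
set_option linter.unusedSectionVars false

namespace Cfsg.Agent.Lib.ChevAut

open Cfsg.Lie Cfsg.Agent.Lib.ChevStructure Cfsg.Agent.Lib.LieTwisted
open scoped MatrixGroups Matrix

variable {D : ChevalleyDatum} (C : Core D) {F : Type*} [Field F] [Fintype F]
include C

/-- An automorphism sending each root element to a root element, positive ones to positive ones. -/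
theorem fix_of_roots {φ : MulAut ↥(D.group F)} (ρ : Rt D → Rt D) (hρ : ∀ r, (ρ r ∈ C.Pos ↔ r ∈ C.Pos))
    (h : ∀ r t, ∃ u, φ (GX C F r t) = GX C F (ρ r) u) :
    Fix φ (C.US F C.Pos) ∧ Fix φ (C.US F C.Neg) := by
  refine ⟨fix_US_of_X C fun r hr t => ?_, fix_US_of_X C fun r hr t => ?_⟩ <;> obtain ⟨u, hu⟩ := h r t <;>
    rw [hu] <;> refine C.X_mem_US F ?_ u
  · exact (hρ r).2 hr
  · rw [C.neg_iff_not_pos] at hr ⊢
    exact fun hp => hr ((hρ r).1 hp)

/-- A symmetry of the tables gives a graph automorphism. -/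
theorem sym_graph (S : GraphAut.Sym) (g : S.Good D) (π : Equiv.Perm (Fin D.rank))
    (hπ : ∀ i, S.π (D.simple i.val) = D.simple (π i).val ∧ S.ε (D.simple i.val) = 1 ∧ stol D π i = false)
    (hpos : ∀ r : Rt D, (D.nroots ≤ 2 * S.π r.val ↔ D.nroots ≤ 2 * r.val)) :
    GraphWith C π (GraphAut.groupAut F g) ∧
      Fix (GraphAut.groupAut F g) (C.US F C.Pos) ∧ Fix (GraphAut.groupAut F g) (C.US F C.Neg) := by
  have hX : ∀ (r : Rt D) (t : F), GraphAut.groupAut F g (GX C F r t) =
      GX C F ⟨S.π r.val, (g.pi r r.isLt).1⟩ ((S.ε r.val : F) * t) := fun r t =>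
    eq_GX C F (GraphAut.groupAut_x F g (GX C F r t) r.isLt t (GX_mat C F r t))
  refine ⟨fun i t => ?_, fix_of_roots C _ hpos fun r t => ⟨_, hX r t⟩⟩
  obtain ⟨h1, h2, h3⟩ := hπ i
  rw [C.simple_eq, C.simple_eq] at h1
  rw [C.simple_eq] at h2
  have he : gexp C F π i = 1 := by
    simp only [gexp, graphExp_eq C, h3, Bool.false_eq_true, if_false]
  have hn := (g.negs _ (C.p i).isLt).2
  rw [C.neg_val, h1, C.neg_val, h2] at hn
  constructor
  · rw [hX, he, pow_one, show (⟨S.π (C.p i).val, (g.pi _ (C.p i).isLt).1⟩ : Rt D) = C.p (π i) from Fin.ext h1, h2]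
    simp
  · rw [hX, he, pow_one, show (⟨S.π (C.p i).rev.val, (g.pi _ (C.p i).rev.isLt).1⟩ : Rt D) = (C.p (π i)).rev
      from Fin.ext hn.1, hn.2]
    simp

theorem graphWith_mul {π π' : Equiv.Perm (Fin D.rank)} {φ φ' : MulAut ↥(D.group F)}
    (hl : ∀ (π : Equiv.Perm (Fin D.rank)) i, stol D π i = false)
    (h : GraphWith C π φ) (h' : GraphWith C π' φ') : GraphWith C (π * π') (φ * φ') := by
  have he : ∀ π i, gexp C F π i = 1 := fun π i => by
    simp only [gexp, graphExp_eq C, hl π i, Bool.false_eq_true, if_false]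
  intro i t
  simp only [he, pow_one]
  constructor
  · rw [MulAut.mul_apply, (h' i t).1, (h (π' i) _).1]; simp [he]
  · rw [MulAut.mul_apply, (h' i t).2, (h (π' i) _).2]; simp [he]

/-- Only the identity symmetry carries a graph automorphism. -/
noncomputable def famOne (H : CommOK C)
    (h : ∀ (π : Equiv.Perm (Fin D.rank)) (φ : MulAut ↥(D.group F)),
      D.IsDiagramSymmetry π → GraphWith C π φ → π = 1) :
    GraphFamily C (F := F) H Unit where
  perm _ := 1
  aut _ := 1
  spec _ := graphWith_one C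
  fix _ := ⟨fun _ => Iff.rfl, fun _ => Iff.rfl⟩
  inj _ _ _ := rfl
  complete π φ hπ hφ := ⟨(), (h π φ hπ hφ).symm⟩

theorem complete_of_card {Γ : Type} [Finite Γ] (hT : DiagramTable D) (perm : Γ → Equiv.Perm (Fin D.rank))
    (hinj : Function.Injective perm) (hperm : ∀ γ, AdjPerm D (perm γ))
    (hn : (partialPerms D D.rank).length ≤ Nat.card Γ) :
    ∀ π, D.IsDiagramSymmetry π → ∃ γ, perm γ = π := by
  classical
  intro π hπ
  let f : Γ → {π : Equiv.Perm (Fin D.rank) // AdjPerm D π} := fun γ => ⟨perm γ, hperm γ⟩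
  have hf : Function.Bijective f :=
    Function.Injective.bijective_of_nat_card_le (fun a b e => hinj (congrArg Subtype.val e))
      (card_adjPerm_le D hn)
  obtain ⟨γ, hγ⟩ := hf.2 ⟨π, adjPerm_of_symm C hT hπ⟩
  exact ⟨γ, congrArg Subtype.val hγ⟩

/-- The identity and one further symmetry. -/
noncomputable def famTwo (H : CommOK C) (hT : DiagramTable D) (π₀ : Equiv.Perm (Fin D.rank))
    (φ₀ : MulAut ↥(D.group F)) (hne : π₀ ≠ 1) (hadj : AdjPerm D π₀) (hg : GraphWith C π₀ φ₀)
    (hfix : Fix φ₀ (C.US F C.Pos) ∧ Fix φ₀ (C.US F C.Neg))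
    (hn : (partialPerms D D.rank).length ≤ 2) : GraphFamily C (F := F) H Bool where
  perm b := if b then π₀ else 1
  aut b := if b then φ₀ else 1
  spec b := by cases b <;> simp [graphWith_one C, hg]
  fix b := by
    cases b
    · exact ⟨fun _ => Iff.rfl, fun _ => Iff.rfl⟩
    · exact hfix
  inj a b e := by cases a <;> cases b <;> simp_all [eq_comm]
  complete π φ hπ _ := by
    refine complete_of_card C hT _ ?_ (fun b => ?_) (by simpa using hn) π hπ
    · intro a b e; cases a <;> cases b <;> simp_all [eq_comm]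
    · cases b
      · exact fun i j _ => by simp
      · exact hadj

theorem sym_trivial_of_count (hT : DiagramTable D) (hn : (partialPerms D D.rank).length ≤ 1)
    (π : Equiv.Perm (Fin D.rank)) (hπ : D.IsDiagramSymmetry π) : π = 1 := by
  obtain ⟨γ, hγ⟩ := complete_of_card C hT (fun _ : Unit => 1) (fun _ _ _ => rfl) (fun _ i j _ => by simp)
    (by simpa using hn) π hπ
  exact hγ.symm

/-- A graph automorphism exchanging root lengths lives in the exceptional characteristic. -/
theorem swap_char (H : CommOK C) {π : Equiv.Perm (Fin D.rank)} {φ : MulAut ↥(D.group F)}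
    (hg : GraphWith C π φ) {i j : Fin D.rank} {m : ℕ} (hij : cart D i j = -1)
    (hij' : cart D (π i) (π j) = -(m : ℤ)) (hi : stol D π i = false) (hj : stol D π j = true)
    (hm : m = 2 ∨ (m = 3 ∧ 3 ≤ Fintype.card F)) : ringChar F = m := by
  haveI : Fact (ringChar F).Prime := ⟨CharP.char_is_prime F (ringChar F)⟩
  set f : Fin D.rank → F → F := fun k t => t ^ gexp C F π k
  have hP : Perms C φ π f f := fun k t => hg k t
  have h1 : ∀ k, f k 1 = 1 := fun k => one_pow _
  have hei : gexp C F π i = 1 := by simp only [gexp, graphExp_eq C, hi, Bool.false_eq_true, if_false]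
  have hej : gexp C F π j = ringChar F := by simp only [gexp, graphExp_eq C, hj, if_true]
  have hrel : ∀ t : F, t ^ ringChar F = t ^ m := by
    intro t
    by_cases ht : t = 0
    · subst ht
      rw [zero_pow (Fact.out : (ringChar F).Prime).ne_zero, zero_pow (by omega)]
    have h := f_torus C hP h1 i j (Units.mk0 t ht) 1
    rw [← cart_eq C, ← cart_eq C, hij, hij', zpow_neg_one, mul_one, h1, mul_one, zpow_neg, zpow_natCast,
      Units.val_inv_eq_inv_val, Units.val_inv_eq_inv_val, Units.val_pow_eq_pow_val] at h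
    simp only [f, hei, hej, Units.val_mk0, pow_one, inv_pow, inv_inj] at h
    exact h
  have hadd : ∀ x y : F, (x + y) ^ m = x ^ m + y ^ m := fun x y => by
    rw [← hrel, ← hrel, ← hrel, add_pow_char]
  have hp : (ringChar F).Prime := Fact.out
  have h11 := hadd 1 1
  rcases hm with rfl | ⟨rfl, hq⟩
  · have h2 : ((2 : ℕ) : F) = 0 := by push_cast; linear_combination h11
    exact (Nat.prime_dvd_prime_iff_eq hp Nat.prime_two).1 ((ringChar.spec F 2).1 h2)
  · have h6 : ((2 * 3 : ℕ) : F) = 0 := by push_cast; linear_combination h11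
    rcases hp.dvd_mul.1 ((ringChar.spec F _).1 h6) with h | h
    · exfalso
      have hc := (Nat.prime_dvd_prime_iff_eq hp Nat.prime_two).1 h
      have hall : ∀ x : F, x = 0 ∨ x = 1 := fun x => by
        have hx := hrel x
        rw [hc] at hx
        have hz : x ^ 2 * (x - 1) = 0 := by linear_combination -hx
        rcases mul_eq_zero.1 hz with h0 | h0
        · exact Or.inl ((pow_eq_zero_iff two_ne_zero).1 h0)
        · exact Or.inr (sub_eq_zero.1 h0)
      classical
      have : Fintype.card F ≤ ({0, 1} : Finset F).card := by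
        rw [← Finset.card_univ]
        exact Finset.card_le_card fun x _ => by simpa using hall x
      have := Finset.card_le_two (a := (0 : F)) (b := 1)
      omega
    · exact (Nat.prime_dvd_prime_iff_eq hp Nat.prime_three).1 h

end Cfsg.Agent.Lib.ChevAut
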