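import Cfsg.Agent.Lib.ChevAut.Families

/-!
The graph families of D4 and E6 and the cokernel certificates of the Cartan matrices.
-/

set_option autoImplicit false
set_option maxRecDepth 100000
set_option linter.unusedSectionVars false

namespace Cfsg.Agent.Lib.ChevAut

open Cfsg.Lie Cfsg.Agent.Lib.ChevStructure Cfsg.Agent.Lib.LieTwisted
open scoped MatrixGroups Matrix

/-- coker certificates -/
def cokerG2 : CokerData chevG2 := ⟨1, ⟨0, by decide⟩, [1, 0], [[0, 0], [1, 2]], [2, 3]⟩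
/-- coker certificates -/
def cokerF4 : CokerData chevF4 :=
  ⟨1, ⟨0, by decide⟩, [1, 0, 0, 0], [[0, 0, 0, 0], [3, 6, 8, 4], [2, 4, 6, 3], [1, 2, 3, 2]], [2, 3, 4, 2]⟩
/-- coker certificates -/
def cokerE6 : CokerData chevE6 :=
  ⟨3, ⟨0, by decide⟩, [1, 0, 2, 0, 1, 2],
    [[0, 0, 0, 0, 0, 0], [1, 2, 2, 3, 2, 1], [-1, 0, 0, 0, 0, 0], [2, 3, 4, 6, 4, 2], [0, 1, 1, 2, 2, 1],
      [-2, -1, -2, -2, -1, 0]], [4, 3, 5, 6, 4, 2]⟩
/-- coker certificates -/
def cokerE7 : CokerData chevE7 :=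
  ⟨2, ⟨1, by decide⟩, [0, 1, 0, 0, 1, 0, 1],
    [[2, 2, 3, 4, 3, 2, 1], [0, 0, 0, 0, 0, 0, 0], [3, 4, 6, 8, 6, 4, 2], [4, 6, 8, 12, 9, 6, 3],
      [1, 1, 2, 3, 3, 2, 1], [2, 3, 4, 6, 5, 4, 2], [-1, -2, -2, -3, -2, -1, 0]], [4, 7, 8, 12, 9, 6, 3]⟩
/-- coker certificates -/
def cokerE8 : CokerData chevE8 :=
  ⟨1, ⟨0, by decide⟩, [1, 0, 0, 0, 0, 0, 0, 0],
    [[0, 0, 0, 0, 0, 0, 0, 0], [5, 8, 10, 15, 12, 9, 6, 3], [7, 10, 14, 20, 16, 12, 8, 4],
      [10, 15, 20, 30, 24, 18, 12, 6], [8, 12, 16, 24, 20, 15, 10, 5], [6, 9, 12, 18, 15, 12, 8, 4],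
      [4, 6, 8, 12, 10, 8, 6, 3], [2, 3, 4, 6, 5, 4, 3, 2]], [4, 5, 7, 10, 8, 6, 4, 2]⟩

theorem cokerG2_valid : cokerG2.Valid := by decide +kernel
theorem cokerF4_valid : cokerF4.Valid := by decide +kernel
theorem cokerE6_valid : cokerE6.Valid := by decide +kernel
theorem cokerE7_valid : cokerE7.Valid := by decide +kernel
theorem cokerE8_valid : cokerE8.Valid := by decide +kernel

/-- the symmetry of E6 -/
def permE6 : Equiv.Perm (Fin chevE6.rank) :=
  Equiv.swap ⟨0, by decide⟩ ⟨5, by decide⟩ * Equiv.swap ⟨2, by decide⟩ ⟨4, by decide⟩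

/-- two transpositions of D4 -/
def permA : Equiv.Perm (Fin chevD4.rank) := Equiv.swap ⟨0, by decide⟩ ⟨2, by decide⟩
/-- two transpositions of D4 -/
def permB : Equiv.Perm (Fin chevD4.rank) := Equiv.swap ⟨2, by decide⟩ ⟨3, by decide⟩

/-- the tables of the transposition A -/
def symA : GraphAut.Sym :=
  ⟨[0, 1, 2, 6, 7, 10, 3, 4, 8, 9, 5, 11, 12, 18, 14, 15, 19, 20, 13, 16, 17, 21, 22, 23], [0, 1, 2, 6, 7, 10, 3, 4, 8, 9, 5, 11, 12, 18, 14, 15, 19, 20, 13, 16, 17, 21, 22, 23], [1, 1, 1, -1, -1, 1, -1, -1, 1, 1, 1, 1, 1, 1, 1, 1, -1, -1, 1, -1, -1, 1, 1, 1], [2, 1, 0, 3], [2, 1, 0, 3]⟩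

/-- the tables of the transposition B -/
def symB : GraphAut.Sym :=
  ⟨[0, 1, 3, 2, 4, 5, 6, 8, 7, 9, 11, 10, 13, 12, 14, 16, 15, 17, 18, 19, 21, 20, 22, 23], [0, 1, 3, 2, 4, 5, 6, 8, 7, 9, 11, 10, 13, 12, 14, 16, 15, 17, 18, 19, 21, 20, 22, 23], [1, 1, 1, 1, 1, 1, 1, 1, 1, 1, 1, 1, 1, 1, 1, 1, 1, 1, 1, 1, 1, 1, 1, 1], [0, 1, 3, 2], [0, 1, 3, 2]⟩

theorem symA_good : symA.Good chevD4 := GraphAut.Sym.good_of_check (by decide +kernel)
theorem symB_good : symB.Good chevD4 := GraphAut.Sym.good_of_check (by decide +kernel)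

theorem permE6_facts : ∀ i : Fin chevE6.rank, GraphData.symE6.π (chevE6.simple i.val) = chevE6.simple (permE6 i).val ∧
    GraphData.symE6.ε (chevE6.simple i.val) = 1 ∧ stol chevE6 permE6 i = false := by decide +kernel

theorem permE6_pos : ∀ r : Rt chevE6,
    (chevE6.nroots ≤ 2 * GraphData.symE6.π r.val ↔ chevE6.nroots ≤ 2 * r.val) := by decide +kernel

theorem permA_facts : ∀ i : Fin chevD4.rank, symA.π (chevD4.simple i.val) = chevD4.simple (permA i).val ∧
    symA.ε (chevD4.simple i.val) = 1 ∧ stol chevD4 permA i = false := by decide +kernel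

theorem permA_pos : ∀ r : Rt chevD4, (chevD4.nroots ≤ 2 * symA.π r.val ↔ chevD4.nroots ≤ 2 * r.val) := by
  decide +kernel

theorem permB_facts : ∀ i : Fin chevD4.rank, symB.π (chevD4.simple i.val) = chevD4.simple (permB i).val ∧
    symB.ε (chevD4.simple i.val) = 1 ∧ stol chevD4 permB i = false := by decide +kernel

theorem permB_pos : ∀ r : Rt chevD4, (chevD4.nroots ≤ 2 * symB.π r.val ↔ chevD4.nroots ≤ 2 * r.val) := by
  decide +kernel

theorem permE6_ne : permE6 ≠ 1 := by decide +kernel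
theorem permE6_adj : AdjPerm chevE6 permE6 := by unfold AdjPerm; decide +kernel

/-- the six symmetries of D4 -/
def permsD4 : Fin 6 → Equiv.Perm (Fin chevD4.rank) :=
  ![1, permA, permB, permA * permB, permB * permA, permA * permB * permA]

theorem permsD4_inj : Function.Injective permsD4 := by unfold Function.Injective; decide +kernel
theorem permsD4_adj : ∀ γ, AdjPerm chevD4 (permsD4 γ) := by unfold AdjPerm; decide +kernel
theorem permsD4_noncomm : permA * permB * permA⁻¹ * permB⁻¹ ≠ 1 := by decide +kernel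

theorem stol_D4 (π : Equiv.Perm (Fin chevD4.rank)) (i : Fin chevD4.rank) : stol chevD4 π i = false := by
  simp [stol, sl_D4.2.1]

variable {F : Type*} [Field F] [Fintype F]

/-- The family of E6. -/
noncomputable def famE6 (C : Core chevE6) (H : CommOK C) : GraphFamily C (F := F) H Bool :=
  let h := sym_graph C (F := F) GraphData.symE6 GraphData.symE6_good permE6 permE6_facts permE6_pos
  famTwo C H (table_of_simplyLaced sl_E6) permE6 (GraphAut.groupAut F GraphData.symE6_good) permE6_ne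
    permE6_adj h.1 h.2 enum_E6

/-- The family of D4. -/
noncomputable def famD4 (C : Core chevD4) (H : CommOK C) : GraphFamily C (F := F) H (Fin 6) where
  perm := permsD4
  aut := ![1, GraphAut.groupAut F symA_good, GraphAut.groupAut F symB_good,
    GraphAut.groupAut F symA_good * GraphAut.groupAut F symB_good,
    GraphAut.groupAut F symB_good * GraphAut.groupAut F symA_good,
    GraphAut.groupAut F symA_good * GraphAut.groupAut F symB_good * GraphAut.groupAut F symA_good]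
  spec γ := by
    have a := (sym_graph C (F := F) symA symA_good permA permA_facts permA_pos).1
    have b := (sym_graph C (F := F) symB symB_good permB permB_facts permB_pos).1
    have m := @graphWith_mul chevD4 C F _ _
    fin_cases γ
    · exact graphWith_one C
    · exact a
    · exact b
    · exact m stol_D4 a b
    · exact m stol_D4 b a
    · exact m stol_D4 (m stol_D4 a b) a
  fix γ := by
    have a := (sym_graph C (F := F) symA symA_good permA permA_facts permA_pos).2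
    have b := (sym_graph C (F := F) symB symB_good permB permB_facts permB_pos).2
    fin_cases γ
    · exact ⟨fun _ => Iff.rfl, fun _ => Iff.rfl⟩
    · exact a
    · exact b
    · exact ⟨b.1.trans a.1, b.2.trans a.2⟩
    · exact ⟨a.1.trans b.1, a.2.trans b.2⟩
    · exact ⟨a.1.trans (b.1.trans a.1), a.2.trans (b.2.trans a.2)⟩
  inj := permsD4_inj
  complete π _ hπ _ := complete_of_card C (table_of_simplyLaced sl_D4) permsD4 permsD4_inj permsD4_adj
    (by simpa using enum_D4) π hπ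

end Cfsg.Agent.Lib.ChevAut
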