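import Cfsg.Agent.Lib.ChevAut.Instances
import Cfsg.Agent.Lib.LieTwisted.Isogeny

/-!
The exceptional graph automorphism of an isogeny, and the absence of a graph automorphism exchanging
root lengths outside the exceptional characteristic.
-/

set_option autoImplicit false
set_option linter.unusedSectionVars false

namespace Cfsg.Agent.Lib.ChevAut

open Cfsg.Lie Cfsg.Agent.Lib.ChevStructure Cfsg.Agent.Lib.LieTwisted
open scoped MatrixGroups Matrix

variable {D : ChevalleyDatum} (C : Core D) {F : Type*} [Field F] [Fintype F]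
include C

/-- An isogeny gives the exceptional graph automorphism. -/
theorem isogeny_graph {S : Isogeny.Data} (g : Isogeny.Good D S) (hdisj : ∀ k ∈ S.Q, k ∉ S.I)
    [CharP F S.p] [ExpChar F S.p] (hperf : ∀ x : F, ∃ y : F, y ^ S.p = x) (π : Equiv.Perm (Fin D.rank))
    (hπ : ∀ i : Fin D.rank, S.r' (D.simple i.val) = D.simple (π i).val ∧
      S.r' (D.neg (D.simple i.val)) = D.neg (D.simple (π i).val) ∧
      S.lm (D.simple i.val) = (if stol D π i then S.p else 1) ∧
      S.lm (D.neg (D.simple i.val)) = (if stol D π i then S.p else 1))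
    (hpos : ∀ r : Rt D, (D.nroots ≤ 2 * S.r' r.val ↔ D.nroots ≤ 2 * r.val)) :
    GraphWith C π (Isogeny.sigmaEquiv g hdisj hperf) ∧
      Fix (Isogeny.sigmaEquiv g hdisj hperf) (C.US F C.Pos) ∧
      Fix (Isogeny.sigmaEquiv g hdisj hperf) (C.US F C.Neg) := by
  have hX : ∀ (r : Rt D) (t : F), Isogeny.sigmaEquiv g hdisj hperf (GX C F r t) =
      GX C F ⟨S.r' r.val, (g.root r r.isLt).1⟩ (t ^ S.lm r.val) := fun r t =>
    eq_GX C F (Isogeny.sigma_root g hdisj (GX C F r t) r.isLt (GX_mat C F r t))
  refine ⟨fun i t => ?_, fix_of_roots C _ hpos fun r t => ⟨_, hX r t⟩⟩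
  have he : gexp C F π i = if stol D π i then S.p else 1 := by
    rw [gexp, graphExp_eq C, ringChar.eq F S.p]
  obtain ⟨h1, h2, h3, h4⟩ := hπ i
  constructor
  · simp only [C.simple_eq] at h1 h3
    rw [hX, he, ← h3]
    congr 1
    exact Fin.ext h1
  · simp only [C.simple_eq, C.neg_val] at h2 h4
    rw [hX, he, ← h4]
    congr 1
    exact Fin.ext h2

/-- With two symmetries of which one exchanges root lengths, only the identity carries a graph
automorphism outside the exceptional characteristic. -/
theorem graph_trivial_of_two (H : CommOK C) (hT : DiagramTable D) (π₀ : Equiv.Perm (Fin D.rank)) (hne : π₀ ≠ 1)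
    (hadj : AdjPerm D π₀) (hn : (partialPerms D D.rank).length ≤ 2) {i j : Fin D.rank} {m : ℕ}
    (hij : cart D i j = -1) (hij' : cart D (π₀ i) (π₀ j) = -(m : ℤ)) (hi : stol D π₀ i = false)
    (hj : stol D π₀ j = true) (hm : m = 2 ∨ (m = 3 ∧ 3 ≤ Fintype.card F)) (hc : ringChar F ≠ m)
    (π : Equiv.Perm (Fin D.rank)) (φ : MulAut ↥(D.group F)) (hπ : D.IsDiagramSymmetry π)
    (hφ : GraphWith C π φ) : π = 1 := by
  obtain ⟨b, hb⟩ := complete_of_card C hT (fun b : Bool => if b then π₀ else 1)
    (by intro a b e; cases a <;> cases b <;> first | rfl | exact absurd e.symm hne | exact absurd e hne)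
    (fun b => by
      cases b
      · exact fun i j _ => by simp
      · exact hadj) (by simpa using hn) π hπ
  cases b
  · exact hb.symm
  · exfalso
    obtain rfl : π₀ = π := hb
    exact hc (swap_char C H hφ hij hij' hi hj hm)

end Cfsg.Agent.Lib.ChevAut
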