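import Cfsg.Agent.Lib.ChevAut.RankOne
import Cfsg.Agent.Lib.ChevBorelTits.Final

/-!
An automorphism of a finite Chevalley group can be composed with an inner automorphism so that
both U and U⁻ are fixed.
-/

set_option autoImplicit false
set_option linter.unusedSectionVars false

namespace Cfsg.Agent.Lib.ChevAut

open Cfsg.Lie Cfsg.Agent.Lib.ChevStructure Cfsg.Agent.Lib.ChevBorelTits
open DoubleCoset
open scoped MatrixGroups Matrix

variable {D : ChevalleyDatum} (C : Core D) {F : Type*} [Field F] [Fintype F]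

/-- θ maps K ∩ G onto itself. -/
def Fix (θ : ↥(D.group F) ≃* ↥(D.group F)) (K : Subgroup (GL D.Idx F)) : Prop :=
  ∀ y : ↥(D.group F), ((θ y : GL D.Idx F) ∈ K ↔ (y : GL D.Idx F) ∈ K)

/-- The image of a subgroup of the group under θ, as a subgroup of GL. -/
def img (θ : ↥(D.group F) ≃* ↥(D.group F)) (K : Subgroup (GL D.Idx F)) : Subgroup (GL D.Idx F) :=
  ((K.subgroupOf (D.group F)).map θ.toMonoidHom).map (D.group F).subtype

theorem mem_img {θ : ↥(D.group F) ≃* ↥(D.group F)} {K : Subgroup (GL D.Idx F)} {y : ↥(D.group F)} :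
    (θ y : GL D.Idx F) ∈ img θ K ↔ (y : GL D.Idx F) ∈ K := by
  constructor
  · rintro ⟨z, ⟨w, hw, rfl⟩, he⟩
    have h1 : θ w = θ y := Subtype.ext he
    rw [← θ.injective h1]
    exact hw
  · exact fun hy => ⟨θ y, ⟨y, hy, rfl⟩, rfl⟩

theorem img_le_group (θ : ↥(D.group F) ≃* ↥(D.group F)) (K : Subgroup (GL D.Idx F)) :
    img θ K ≤ D.group F := by
  rintro _ ⟨z, -, rfl⟩
  exact z.2

theorem card_img (θ : ↥(D.group F) ≃* ↥(D.group F)) {K : Subgroup (GL D.Idx F)} (hK : K ≤ D.group F) :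
    Nat.card (img θ K) = Nat.card K := by
  rw [img, Subgroup.card_map_of_injective (D.group F).subtype_injective,
    Subgroup.card_map_of_injective θ.injective, Nat.card_congr (Subgroup.subgroupOfEquivOfLe hK).toEquiv]

theorem fix_iff_img {θ : ↥(D.group F) ≃* ↥(D.group F)} {K : Subgroup (GL D.Idx F)} (hK : K ≤ D.group F) :
    Fix θ K ↔ img θ K = K := by
  constructor
  · intro h
    refine le_antisymm ?_ ?_
    · rintro _ ⟨z, ⟨w, hw, rfl⟩, rfl⟩
      exact (h w).2 hw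
    · intro x hx
      refine ⟨⟨x, hK hx⟩, ⟨θ.symm ⟨x, hK hx⟩, ?_, θ.apply_symm_apply _⟩, rfl⟩
      show (θ.symm ⟨x, hK hx⟩ : GL D.Idx F) ∈ K
      rw [← h, θ.apply_symm_apply]
      exact hx
  · intro h y
    conv_lhs => rw [← h]
    exact mem_img

theorem Fix.symm {θ : ↥(D.group F) ≃* ↥(D.group F)} {K : Subgroup (GL D.Idx F)} (h : Fix θ K) :
    Fix θ.symm K := fun y => by rw [← h, θ.apply_symm_apply]

theorem Fix.trans {θ φ : ↥(D.group F) ≃* ↥(D.group F)} {K : Subgroup (GL D.Idx F)} (h : Fix θ K)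
    (h' : Fix φ K) : Fix (θ.trans φ) K := fun y => (h' (θ y)).trans (h y)

/-- conjugation inside the group -/
def innG (g : ↥(D.group F)) : ↥(D.group F) ≃* ↥(D.group F) := MulAut.conj g

theorem img_innG (θ : ↥(D.group F) ≃* ↥(D.group F)) (g : ↥(D.group F)) (K : Subgroup (GL D.Idx F)) :
    img (θ.trans (innG g)) K = (img θ K).map (MulAut.conj (g : GL D.Idx F)).toMonoidHom := by
  rw [img, img, Subgroup.map_map, Subgroup.map_map, Subgroup.map_map]
  rfl

theorem map_conj_le_iff {g : GL D.Idx F} {A B : Subgroup (GL D.Idx F)} :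
    A ≤ B.map (MulAut.conj g).toMonoidHom ↔ A.map (MulAut.conj g⁻¹).toMonoidHom ≤ B := by
  constructor
  · rintro h _ ⟨a, ha, rfl⟩
    obtain ⟨b, hb, e⟩ := h ha
    rw [← e]
    simpa [mul_assoc] using hb
  · intro h a ha
    refine ⟨g⁻¹ * a * g, by simpa [mul_assoc] using h ⟨a, ha, rfl⟩, by simp [mul_assoc]⟩

theorem card_map_conj (g : GL D.Idx F) (A : Subgroup (GL D.Idx F)) :
    Nat.card (A.map (MulAut.conj g).toMonoidHom) = Nat.card A :=
  Subgroup.card_map_of_injective (MulAut.conj g).injective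

theorem eq_of_le_of_card {A B : Subgroup (GL D.Idx F)} (h : A ≤ B) (hc : Nat.card B ≤ Nat.card A) : A = B :=
  Subgroup.eq_of_le_of_card_ge h hc

theorem Fix.normalizer {θ : ↥(D.group F) ≃* ↥(D.group F)} {K : Subgroup (GL D.Idx F)} (hK : K ≤ D.group F)
    (h : Fix θ K) : Fix θ (D.group F ⊓ Subgroup.normalizer (K : Set (GL D.Idx F))) := by
  have key : ∀ (ψ : ↥(D.group F) ≃* ↥(D.group F)), Fix ψ K → ∀ y : ↥(D.group F),
      (y : GL D.Idx F) ∈ Subgroup.normalizer (K : Set (GL D.Idx F)) →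
      (ψ y : GL D.Idx F) ∈ Subgroup.normalizer (K : Set (GL D.Idx F)) := by
    intro ψ hψ y hy
    rw [Subgroup.mem_normalizer_iff] at hy ⊢
    intro x
    by_cases hx : x ∈ D.group F
    · obtain ⟨w, hw⟩ : ∃ w, ψ w = ⟨x, hx⟩ := ⟨ψ.symm ⟨x, hx⟩, ψ.apply_symm_apply _⟩
      have hxw : x = (ψ w : GL D.Idx F) := congrArg Subtype.val hw.symm
      rw [hxw, hψ w, show (ψ y : GL D.Idx F) * (ψ w : GL D.Idx F) * (ψ y : GL D.Idx F)⁻¹ =
        ((ψ (y * w * y⁻¹) : ↥(D.group F)) : GL D.Idx F) by simp, hψ]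
      exact hy (w : GL D.Idx F)
    · refine ⟨fun h' => absurd (hK h') hx, fun h' => absurd ?_ hx⟩
      have := mul_mem (mul_mem (inv_mem (ψ y).2) (hK h')) (ψ y).2
      simpa [mul_assoc] using this
  intro y
  refine ⟨fun hy => ⟨y.2, ?_⟩, fun hy => ⟨(θ y).2, key θ h y hy.2⟩⟩
  have := key θ.symm h.symm (θ y) hy.2
  rwa [θ.symm_apply_apply] at this

include C

theorem borel_eq_normalizer (H : CommOK C) :
    D.borelSubgroup F = D.group F ⊓ Subgroup.normalizer (C.US F C.Pos : Set (GL D.Idx F)) := by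
  refine le_antisymm (le_inf C.borel_le_group ?_) (normalizer_le_borel C F (parHyp H F))
  rw [C.borel_eq]; exact sup_le Subgroup.le_normalizer (C.diag_le_normalizer _)

theorem fix_borel (H : CommOK C) {θ : ↥(D.group F) ≃* ↥(D.group F)} (h : Fix θ (C.US F C.Pos)) :
    Fix θ (D.borelSubgroup F) := by
  rw [borel_eq_normalizer C H]
  exact h.normalizer (C.US_le_group _)

theorem isPGroup_US (H : CommOK C) (p : ℕ) [Fact p.Prime] [CharP F p] : IsPGroup p (C.US F C.Pos) := by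
  obtain ⟨m, -, hm⟩ := FiniteField.card F p
  refine IsPGroup.of_card (n := m * (D.nroots / 2)) ?_
  rw [H.card_posUS, Nat.card_eq_fintype_card, hm, ← pow_mul]

/-- Step one: U is fixed after an inner automorphism. -/
theorem exists_fix_pos (H : CommOK C) (θ : ↥(D.group F) ≃* ↥(D.group F)) :
    ∃ g : ↥(D.group F), Fix (θ.trans (innG g)) (C.US F C.Pos) := by
  obtain ⟨p, hp⟩ := CharP.exists F
  haveI : Fact p.Prime := ⟨CharP.char_is_prime F p⟩
  have hU : C.US F C.Pos ≤ D.group F := C.US_le_group _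
  have hRp : IsPGroup p (img θ (C.US F C.Pos)) := by
    obtain ⟨n, hn⟩ := IsPGroup.iff_card.1 (isPGroup_US C (F := F) H p)
    exact IsPGroup.of_card ((card_img θ hU).trans hn)
  obtain ⟨g, hg, hle⟩ := exists_conj_le_US C F p H (parHyp H F) _ (img_le_group θ _) hRp
  refine ⟨(⟨g, hg⟩ : ↥(D.group F))⁻¹, (fix_iff_img hU).2 ?_⟩
  rw [img_innG]
  refine eq_of_le_of_card ((map_conj_le_iff).1 hle) ?_
  rw [card_map_conj, card_img θ hU]

/-- Step two: U⁻ is fixed as well. -/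
theorem exists_fix_both (H : CommOK C) (θ : ↥(D.group F) ≃* ↥(D.group F)) :
    ∃ g : ↥(D.group F), Fix (θ.trans (innG g)) (C.US F C.Pos) ∧ Fix (θ.trans (innG g)) (C.US F C.Neg) := by
  obtain ⟨p, hp⟩ := CharP.exists F
  haveI : Fact p.Prime := ⟨CharP.char_is_prime F p⟩
  obtain ⟨g₁, hg₁⟩ := exists_fix_pos C H θ
  set ψ := θ.trans (innG g₁) with hψ
  have hU : C.US F C.Pos ≤ D.group F := C.US_le_group _
  have hN : C.US F C.Neg ≤ D.group F := C.US_le_group _
  obtain ⟨L, hL, hLmap⟩ := C.exists_opposition (F := F)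
  have hcard : Nat.card (C.US F C.Neg) = Nat.card (C.US F C.Pos) := by
    rw [← hLmap, card_map_conj]
  set R := img ψ (C.US F C.Neg) with hR
  have hRp : IsPGroup p R := by
    obtain ⟨n, hn⟩ := IsPGroup.iff_card.1 (isPGroup_US C (F := F) H p)
    exact IsPGroup.of_card ((card_img ψ hN).trans (hcard.trans hn))
  obtain ⟨a, ha, hle⟩ := exists_conj_le_US C F p H (parHyp H F) _ (img_le_group ψ _) hRp
  have hReq : R = (C.US F C.Pos).map (MulAut.conj a).toMonoidHom :=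
    eq_of_le_of_card hle (by rw [card_map_conj, hR, card_img ψ hN, hcard])
  -- R meets U trivially
  have hinf : ∀ x ∈ R, x ∈ C.US F C.Pos → x = 1 := by
    rintro _ ⟨y, ⟨w, hw, rfl⟩, rfl⟩ hxU
    have hwU : (w : GL D.Idx F) ∈ C.US F C.Pos := (hg₁ w).1 hxU
    have hw' : (w : GL D.Idx F) ∈ C.US F C.Neg := hw
    have hw1 : (w : GL D.Idx F) = 1 := by
      rw [← Subgroup.mem_bot, ← C.borel_inf_negUS]
      exact ⟨C.posUS_le_borel hwU, hw'⟩
    have : w = 1 := Subtype.ext hw1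
    simp [this]
  obtain ⟨n, hn, hdc⟩ := H.exists_bruhat ha
  obtain ⟨b, hb, b', hb', e⟩ := mem_doubleCoset.1 hdc
  obtain ⟨σ, -, hσ⟩ := C.exists_acts hn
  have hb'N : b' ∈ Subgroup.normalizer (C.US F C.Pos : Set (GL D.Idx F)) :=
    ((borel_eq_normalizer C H).le hb').2
  have hbN : b ∈ Subgroup.normalizer (C.US F C.Pos : Set (GL D.Idx F)) :=
    ((borel_eq_normalizer C H).le hb).2
  have hR2 : R = (C.US F (σ '' C.Pos)).map (MulAut.conj b).toMonoidHom := by
    rw [hReq, ← C.map_conj_US F hσ, Subgroup.map_map, e]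
    ext x
    simp only [Subgroup.mem_map, MulEquiv.coe_toMonoidHom, MonoidHom.coe_comp, Function.comp_apply,
      MulAut.conj_apply]
    constructor
    · rintro ⟨u, hu, rfl⟩
      exact ⟨b' * u * b'⁻¹, (Subgroup.mem_normalizer_iff.1 hb'N u).1 hu, by group⟩
    · rintro ⟨u, hu, rfl⟩
      exact ⟨b'⁻¹ * u * b', (Subgroup.mem_normalizer_iff''.1 hb'N u).1 hu, by group⟩
  have hsub : σ '' C.Pos ⊆ C.Neg := by
    rintro _ ⟨r, hr, rfl⟩
    by_contra hneg
    have hsr : σ r ∈ C.Pos := by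
      by_contra h; exact hneg ((C.neg_iff_not_pos _).2 h)
    have hXR : b * C.X F (σ r) 1 * b⁻¹ ∈ R := by
      rw [hR2]; exact ⟨_, C.X_mem_US F (Set.mem_image_of_mem σ hr) 1, rfl⟩
    have := hinf _ hXR ((Subgroup.mem_normalizer_iff.1 hbN _).1 (C.X_mem_US F hsr 1))
    rw [mul_inv_eq_one, mul_eq_left] at this
    exact one_ne_zero (C.X_eq_one this)
  have hR3 : R = (C.US F C.Neg).map (MulAut.conj b).toMonoidHom := by
    refine eq_of_le_of_card (hR2 ▸ Subgroup.map_mono (C.US_mono F hsub)) ?_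
    rw [card_map_conj, hR, card_img ψ hN]
  obtain ⟨u, hu, h, hh, rfl⟩ := C.mem_borel_iff.1 hb
  have hR4 : R = (C.US F C.Neg).map (MulAut.conj u).toMonoidHom := by
    rw [hR3]
    have hhN := C.diag_le_normalizer C.Neg hh
    ext x
    simp only [Subgroup.mem_map, MulEquiv.coe_toMonoidHom, MulAut.conj_apply]
    constructor
    · rintro ⟨v, hv, rfl⟩
      exact ⟨h * v * h⁻¹, (Subgroup.mem_normalizer_iff.1 hhN v).1 hv, by group⟩
    · rintro ⟨v, hv, rfl⟩
      exact ⟨h⁻¹ * v * h, (Subgroup.mem_normalizer_iff''.1 hhN v).1 hv, by group⟩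
  have huG : u ∈ D.group F := hU hu
  set g₂ : ↥(D.group F) := (⟨u, huG⟩ : ↥(D.group F))⁻¹ with hg₂
  refine ⟨g₂ * g₁, ?_⟩
  have etr : θ.trans (innG (g₂ * g₁)) = ψ.trans (innG g₂) := by
    ext y
    simp [hψ, innG, mul_assoc]
  rw [etr]
  refine ⟨(fix_iff_img hU).2 ?_, (fix_iff_img hN).2 ?_⟩
  · rw [img_innG, (fix_iff_img hU).1 hg₁]
    refine eq_of_le_of_card ?_ (by rw [card_map_conj])
    rintro _ ⟨x, hx, rfl⟩
    exact mul_mem (mul_mem (inv_mem hu) hx) (inv_mem (inv_mem hu))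
  · rw [img_innG, ← hR, hR4, Subgroup.map_map]
    convert Subgroup.map_id (C.US F C.Neg)
    ext x
    simp [hg₂, mul_assoc]

end Cfsg.Agent.Lib.ChevAut
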