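import Cfsg.Agent.Lib.ChevAut.Steinberg
import Cfsg.Agent.Lib.AutPSL.Card
import Cfsg.Agent.S2157
import Cfsg.Prelude.Def_KGroupFacts

/-!
The diagonal and field automorphisms of a finite Chevalley group as groups, the automorphisms with a
given action on the diagram, and the inner automorphisms among their products.
-/

set_option autoImplicit false
set_option linter.unusedSectionVars false

namespace Cfsg.Agent.Lib.ChevAut

open Cfsg.Lie Cfsg.Agent.Lib.ChevStructure Cfsg.Agent.Lib.ChevBorelTits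
open scoped MatrixGroups Matrix

variable {D : ChevalleyDatum} (C : Core D) {F : Type*} [Field F] [Fintype F]
include C

theorem aut_ext {a b : MulAut ↥(D.group F)}
    (hp : ∀ i t, a (GX C F (C.p i) t) = b (GX C F (C.p i) t))
    (hn : ∀ i t, a (GX C F (C.p i).rev t) = b (GX C F (C.p i).rev t)) : a = b :=
  MulEquiv.ext fun y => hom_ext C F (f := a.toMonoidHom) (g := b.toMonoidHom) hp hn y

theorem GX_eq (r : Rt D) (t : F) :
    GX C F r t = (⟨C.X F r t, C.X_mem_group _ _⟩ : ↥(D.group F)) := rfl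

theorem GX_congr {r : Rt D} {t u : F} (h : t = u) : GX C F r t = GX C F r u := by rw [h]

theorem GX_inj {r : Rt D} {t u : F} (h : GX C F r t = GX C F r u) : t = u :=
  X_inj C (congrArg Subtype.val h)

theorem GX_inj_root {r s : Rt D} {t u : F} (h : GX C F r t = GX C F s u) (ht : t ≠ 0) : r = s :=
  X_inj_root C (congrArg Subtype.val h) ht

theorem fieldAut_GX' (σ : F ≃+* F) (r : Rt D) (t : F) :
    fieldAut C σ (GX C F r t) = GX C F r (σ t) := fieldAut_GX C σ r t

theorem diagAut_GX' (χ : Fin D.rank → Fˣ) (r : Rt D) (t : F) :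
    diagAut C χ (GX C F r t) = GX C F r ((C.chr F χ r : F) * t) := diagAut_GX C χ r t

/-- field automorphisms -/
def fieldHom : (F ≃+* F) →* MulAut ↥(D.group F) where
  toFun σ := fieldAut C σ
  map_one' := by
    refine aut_ext C (fun i t => ?_) fun i t => ?_ <;> exact (fieldAut_GX' C _ _ t).trans rfl
  map_mul' σ τ := by
    refine aut_ext C (fun i t => ?_) fun i t => ?_ <;>
      rw [MulAut.mul_apply, fieldAut_GX', fieldAut_GX', fieldAut_GX'] <;> rfl

theorem fieldHom_GX (σ : F ≃+* F) (r : Rt D) (t : F) : fieldHom C σ (GX C F r t) = GX C F r (σ t) :=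
  fieldAut_GX' C σ r t

theorem chr_one (r : Rt D) : C.chr F (1 : Fin D.rank → Fˣ) r = 1 := by simp [Core.chr]

theorem chr_mul' (χ ψ : Fin D.rank → Fˣ) (r : Rt D) : C.chr F (χ * ψ) r = C.chr F χ r * C.chr F ψ r := by
  simp [Core.chr, mul_zpow, Finset.prod_mul_distrib]

/-- diagonal automorphisms -/
def diagHom : (Fin D.rank → Fˣ) →* MulAut ↥(D.group F) where
  toFun χ := diagAut C χ
  map_one' := by
    refine aut_ext C (fun i t => ?_) fun i t => ?_ <;>
      rw [diagAut_GX', MulAut.one_apply, chr_one C, Units.val_one, one_mul]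
  map_mul' χ ψ := by
    refine aut_ext C (fun i t => ?_) fun i t => ?_ <;>
      rw [MulAut.mul_apply, diagAut_GX', diagAut_GX', diagAut_GX', chr_mul' C, Units.val_mul, mul_assoc]

theorem diagHom_p (χ : Fin D.rank → Fˣ) (i : Fin D.rank) (t : F) :
    diagHom C χ (GX C F (C.p i) t) = GX C F (C.p i) ((χ i : F) * t) :=
  (diagAut_GX' C χ _ t).trans (by rw [chr_p C])

theorem diagHom_p_rev (χ : Fin D.rank → Fˣ) (i : Fin D.rank) (t : F) :
    diagHom C χ (GX C F (C.p i).rev t) = GX C F (C.p i).rev ((((χ i)⁻¹ : Fˣ) : F) * t) :=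
  (diagAut_GX' C χ _ t).trans (by rw [C.chr_rev, chr_p C])

theorem diagHom_injective : Function.Injective (diagHom C (F := F)) := by
  intro χ ψ h
  funext i
  have := DFunLike.congr_fun h (GX C F (C.p i) 1)
  rw [diagHom_p, diagHom_p, mul_one, mul_one] at this
  exact Units.ext (GX_inj C this)

/-- the values of the torus element h(c) on the fundamental roots -/
def cartMap : (Fin D.rank → Fˣ) →* (Fin D.rank → Fˣ) where
  toFun c m := C.chA c (C.p m)
  map_one' := by funext m; simp [Core.chA]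
  map_mul' c e := by funext m; simp [Core.chA, mul_zpow, Finset.prod_mul_distrib]

theorem cartMap_apply (c : Fin D.rank → Fˣ) (m : Fin D.rank) :
    cartMap C c m = ∏ j, c j ^ cart D j m := by
  simp only [cartMap, MonoidHom.coe_mk, OneHom.coe_mk, Core.chA]
  exact Finset.prod_congr rfl fun j _ => by rw [cart_eq C]

theorem conj_diag (c : Fin D.rank → Fˣ) :
    MulAut.conj (⟨C.HT F c, C.HT_mem_group c⟩ : ↥(D.group F)) = diagHom C (cartMap C c) := by
  refine aut_ext C (fun i t => ?_) fun i t => ?_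
  · rw [diagHom_p]
    exact Subtype.ext (C.HT_X_conj F c _ t)
  · rw [diagHom_p_rev]
    apply Subtype.ext
    show C.HT F c * C.X F (C.p i).rev t * (C.HT F c)⁻¹ = C.X F (C.p i).rev _
    rw [C.HT_X_conj]
    congr 2
    rw [← C.chr_chA F c (C.p i).rev, C.chr_rev, chr_p C]
    rfl

theorem isDiagonalAut_iff (hh : headsOK D = true)
    (hD : D ∈ [chevG2, chevB2, chevD4, chevF4, chevE6, chevE7, chevE8]) (φ : MulAut ↥(D.group F)) :
    D.IsDiagonalAut φ ↔ φ ∈ (diagHom C (F := F)).range := by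
  constructor
  · rintro ⟨χ, hχ, hφ⟩
    refine ⟨fun i => χ (C.p i).val, aut_ext C (fun i t => ?_) fun i t => ?_⟩
    · rw [diagHom_p]
      refine (eq_GX C F ?_).symm
      rw [hφ, GX_mat]
      exact Cfsg.Agent.S2157.result D hD χ hχ _ (C.p i).isLt t
    · rw [diagHom_p_rev]
      refine (eq_GX C F ?_).symm
      rw [hφ, GX_mat, Cfsg.Agent.S2157.result D hD χ hχ _ (C.p i).rev.isLt t, ← C.neg_val,
        hχ.1 _ (C.p i).isLt]
  · rintro ⟨χ, rfl⟩
    exact isDiagonalAut_diagAut C hh χ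

theorem isFieldAut_iff (φ : MulAut ↥(D.group F)) :
    D.IsFieldAut φ ↔ φ ∈ (fieldHom C (F := F)).range := by
  constructor
  · rintro ⟨σ, hσ⟩
    refine ⟨σ, aut_ext C (fun i t => ?_) fun i t => ?_⟩ <;>
      exact (fieldHom_GX C σ _ t).trans (eq_GX C F (hσ _ _ _ (Fin.isLt _) (GX_mat C F _ _))).symm
  · rintro ⟨σ, rfl⟩
    exact isFieldAut_fieldAut C σ

/-- the exponent of a graph automorphism at a node -/
noncomputable def gexp (_C : Core D) (F : Type*) [Field F] (π : Equiv.Perm (Fin D.rank)) (i : Fin D.rank) : ℕ :=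
  D.graphExp (ringChar F) i (π i)

/-- φ acts as the graph automorphism of π. -/
def GraphWith (π : Equiv.Perm (Fin D.rank)) (φ : MulAut ↥(D.group F)) : Prop :=
  ∀ i t, φ (GX C F (C.p i) t) = GX C F (C.p (π i)) (t ^ gexp C F π i) ∧
    φ (GX C F (C.p i).rev t) = GX C F (C.p (π i)).rev (t ^ gexp C F π i)

theorem isGraphAut_iff (φ : MulAut ↥(D.group F)) :
    D.IsGraphAut φ ↔ ∃ π, D.IsDiagramSymmetry π ∧ GraphWith C π φ := by
  constructor
  · rintro ⟨π, hπ, h⟩
    refine ⟨π, hπ, fun i t => ⟨eq_GX C F ?_, eq_GX C F ?_⟩⟩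
    · rw [(h (GX C F (C.p i) t) i t).1 (by rw [GX_mat, C.simple_eq]), C.simple_eq]
      rfl
    · rw [(h (GX C F (C.p i).rev t) i t).2 (by rw [GX_mat, C.simple_eq, C.neg_val]), C.simple_eq, C.neg_val]
      rfl
  · rintro ⟨π, hπ, h⟩
    refine ⟨π, hπ, fun y i t => ⟨fun hy => ?_, fun hy => ?_⟩⟩
    · rw [C.simple_eq] at hy
      rw [eq_GX C F hy, (h i t).1, GX_mat, C.simple_eq]
      rfl
    · rw [C.simple_eq, C.neg_val] at hy
      rw [eq_GX C F hy, (h i t).2, GX_mat, C.simple_eq, C.neg_val]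
      rfl

theorem GraphWith.unique {π : Equiv.Perm (Fin D.rank)} {φ ψ : MulAut ↥(D.group F)}
    (h : GraphWith C π φ) (h' : GraphWith C π ψ) : φ = ψ :=
  aut_ext C (fun i t => (h i t).1.trans (h' i t).1.symm) fun i t => (h i t).2.trans (h' i t).2.symm

theorem graphWith_one : GraphWith C 1 (1 : MulAut ↥(D.group F)) := by
  intro i t
  have he : gexp C F 1 i = 1 := by simp [gexp, ChevalleyDatum.graphExp]
  constructor <;> simp [he]

theorem graph_field {π : Equiv.Perm (Fin D.rank)} {φ : MulAut ↥(D.group F)} (h : GraphWith C π φ)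
    (σ : F ≃+* F) : φ * fieldHom C σ = fieldHom C σ * φ := by
  refine aut_ext C (fun i t => ?_) fun i t => ?_
  · rw [MulAut.mul_apply, MulAut.mul_apply, fieldHom_GX, (h i _).1, (h i _).1, fieldHom_GX, map_pow]
  · rw [MulAut.mul_apply, MulAut.mul_apply, fieldHom_GX, (h i _).2, (h i _).2, fieldHom_GX, map_pow]

/-- the character moved by a graph automorphism -/
noncomputable def graphChar (π : Equiv.Perm (Fin D.rank)) (χ : Fin D.rank → Fˣ) : Fin D.rank → Fˣ :=
  fun k => χ (π.symm k) ^ gexp C F π (π.symm k)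

theorem graph_diag {π : Equiv.Perm (Fin D.rank)} {φ : MulAut ↥(D.group F)} (h : GraphWith C π φ)
    (χ : Fin D.rank → Fˣ) : φ * diagHom C χ = diagHom C (graphChar C π χ) * φ := by
  refine aut_ext C (fun i t => ?_) fun i t => ?_
  · rw [MulAut.mul_apply, MulAut.mul_apply, diagHom_p, (h i _).1, (h i _).1, diagHom_p]
    simp [graphChar, mul_pow]
  · rw [MulAut.mul_apply, MulAut.mul_apply, diagHom_p_rev, (h i _).2, (h i _).2, diagHom_p_rev]
    simp [graphChar, mul_pow, inv_pow]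

theorem field_diag (σ : F ≃+* F) (χ : Fin D.rank → Fˣ) :
    fieldHom C σ * diagHom C χ = diagHom C (fun k => Units.map σ.toRingHom.toMonoidHom (χ k)) * fieldHom C σ := by
  refine aut_ext C (fun i t => ?_) fun i t => ?_
  · rw [MulAut.mul_apply, MulAut.mul_apply, diagHom_p, fieldHom_GX, fieldHom_GX, diagHom_p]
    simp [map_mul]
  · rw [MulAut.mul_apply, MulAut.mul_apply, diagHom_p_rev, fieldHom_GX, fieldHom_GX, diagHom_p_rev]
    simp [map_mul]

theorem exists_decomp (H : CommOK C) (hT : DiagramTable D) (hh : headsOK D = true)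
    (hD : D ∈ [chevG2, chevB2, chevD4, chevF4, chevE6, chevE7, chevE8]) (θ : MulAut ↥(D.group F)) :
    ∃ (x : ↥(D.group F)) (χ : Fin D.rank → Fˣ) (π : Equiv.Perm (Fin D.rank)) (φ : MulAut ↥(D.group F))
      (σ : F ≃+* F), D.IsDiagramSymmetry π ∧ GraphWith C π φ ∧
        θ = MulAut.conj x * diagHom C χ * φ * fieldHom C σ := by
  obtain ⟨x, d, g, f, hd, hg, hf, h⟩ := steinberg C H hT hh θ
  obtain ⟨χ, rfl⟩ := (isDiagonalAut_iff C hh hD d).1 hd
  obtain ⟨σ, rfl⟩ := (isFieldAut_iff C f).1 hf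
  obtain ⟨π, hπ, hg'⟩ := (isGraphAut_iff C g).1 hg
  exact ⟨x, χ, π, g, σ, hπ, hg', MulEquiv.ext fun y => h y⟩

theorem fix_US_of_X {φ : MulAut ↥(D.group F)} {S : Set (Rt D)}
    (h : ∀ r ∈ S, ∀ t, (φ (GX C F r t) : GL D.Idx F) ∈ C.US F S) : Fix φ (C.US F S) := by
  have hle : img φ (C.US F S) ≤ C.US F S := by
    rintro _ ⟨z, ⟨w, hw, rfl⟩, rfl⟩
    have hgen : ∀ w : GL D.Idx F, ∀ hw : w ∈ C.US F S,
        (φ ⟨w, C.US_le_group S hw⟩ : GL D.Idx F) ∈ C.US F S := by
      intro w hw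
      induction hw using Subgroup.closure_induction with
      | mem x hx =>
        obtain ⟨r, hr, t, rfl⟩ := hx
        exact h r hr t
      | one =>
        have e : (⟨1, C.US_le_group S (one_mem _)⟩ : ↥(D.group F)) = 1 := rfl
        rw [e, map_one]; exact one_mem _
      | mul x y hx hy ihx ihy =>
        have e : (⟨x * y, C.US_le_group S (mul_mem hx hy)⟩ : ↥(D.group F)) =
            ⟨x, C.US_le_group S hx⟩ * ⟨y, C.US_le_group S hy⟩ := rfl
        rw [e, map_mul]; exact mul_mem ihx ihy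
      | inv x hx ih =>
        have e : (⟨x⁻¹, C.US_le_group S (inv_mem hx)⟩ : ↥(D.group F)) =
            (⟨x, C.US_le_group S hx⟩ : ↥(D.group F))⁻¹ := rfl
        rw [e, map_inv]; exact inv_mem ih
    exact hgen w hw
  exact (fix_iff_img (C.US_le_group S)).2
    (eq_of_le_of_card hle (le_of_eq (card_img φ (C.US_le_group S)).symm))

theorem fix_fieldHom (σ : F ≃+* F) (S : Set (Rt D)) : Fix (fieldHom C σ) (C.US F S) :=
  fix_US_of_X C fun r hr t => by rw [fieldHom_GX]; exact C.X_mem_US F hr _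

theorem fix_diagHom (χ : Fin D.rank → Fˣ) (S : Set (Rt D)) : Fix (diagHom C χ) (C.US F S) :=
  fix_US_of_X C fun r hr t => by
    show (diagAut C χ (GX C F r t) : GL D.Idx F) ∈ _
    rw [diagAut_GX']; exact C.X_mem_US F hr _

theorem mem_normalizer_of_fix {x : ↥(D.group F)} {K : Subgroup (GL D.Idx F)} (hK : K ≤ D.group F)
    (h : Fix (MulAut.conj x) K) : (x : GL D.Idx F) ∈ Subgroup.normalizer (K : Set (GL D.Idx F)) := by
  rw [Subgroup.mem_normalizer_iff]
  intro y
  constructor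
  · intro hy; exact (h ⟨y, hK hy⟩).2 hy
  · intro hy
    have hyG : y ∈ D.group F := by
      have := mul_mem (mul_mem (inv_mem x.2) (hK hy)) x.2
      simpa [mul_assoc] using this
    exact (h ⟨y, hyG⟩).1 hy

/-- An inner automorphism fixing U and U⁻ comes from the diagonal subgroup. -/
theorem conj_fix_diag (H : CommOK C) {x : ↥(D.group F)} (hU : Fix (MulAut.conj x) (C.US F C.Pos))
    (hN : Fix (MulAut.conj x) (C.US F C.Neg)) : ∃ c, (x : GL D.Idx F) = C.HT F c := by
  have hxU := mem_normalizer_of_fix C (C.US_le_group _) hU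
  have hxN := mem_normalizer_of_fix C (C.US_le_group _) hN
  have hxB : (x : GL D.Idx F) ∈ D.borelSubgroup F := by
    rw [borel_eq_normalizer C H]; exact ⟨x.2, hxU⟩
  obtain ⟨u, hu, h, hh, e⟩ := C.mem_borel_iff.1 hxB
  have huN : u ∈ Subgroup.normalizer (C.US F C.Neg : Set (GL D.Idx F)) := by
    have := (Subgroup.normalizer (C.US F C.Neg : Set (GL D.Idx F))).mul_mem hxN
      ((Subgroup.normalizer (C.US F C.Neg : Set (GL D.Idx F))).inv_mem (C.diag_le_normalizer C.Neg hh))
    rwa [e, mul_inv_cancel_right] at this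
  -- transport U⁻ to U by the opposition element
  obtain ⟨L, hL, hLmap⟩ := C.exists_opposition (F := F)
  set n := C.wprod F L
  have hnu : n⁻¹ * u * n ∈ D.borelSubgroup F := by
    rw [borel_eq_normalizer C H]
    have hnG : n ∈ D.group F := C.monomial_le_group (C.wprod_mem_monomial L)
    refine ⟨(D.group F).mul_mem ((D.group F).mul_mem ((D.group F).inv_mem hnG) (C.US_le_group _ hu)) hnG, ?_⟩
    show n⁻¹ * u * n ∈ Subgroup.normalizer (C.US F C.Pos : Set (GL D.Idx F))
    rw [Subgroup.mem_normalizer_iff]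
    intro y
    have key : ∀ z, (n * z * n⁻¹ ∈ C.US F C.Neg ↔ z ∈ C.US F C.Pos) := fun z => by
      rw [← hLmap]
      exact Subgroup.mem_map_iff_mem (f := (MulAut.conj n).toMonoidHom) (MulAut.conj n).injective (x := z)
    rw [← key, ← key, show n * (n⁻¹ * u * n * y * (n⁻¹ * u * n)⁻¹) * n⁻¹ = u * (n * y * n⁻¹) * u⁻¹ by group]
    exact Subgroup.mem_normalizer_iff.1 huN _
  obtain ⟨v, hv, k, hk, e2⟩ := C.mem_borel_iff.1 hnu
  have hu' : u = n * v * n⁻¹ * (n * k * n⁻¹) := by
    rw [show n * v * n⁻¹ * (n * k * n⁻¹) = n * (v * k) * n⁻¹ by group, ← e2]; group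
  have h1 : u ∈ D.borelSubgroup F ⊓ (C.US F C.Neg ⊔ D.diagonalSubgroup F) := by
    refine ⟨C.posUS_le_borel hu, ?_⟩
    show u ∈ C.US F C.Neg ⊔ D.diagonalSubgroup F
    rw [hu']
    refine mul_mem (Subgroup.mem_sup_left ?_) (Subgroup.mem_sup_right ?_)
    · rw [← hLmap]; exact ⟨v, hv, rfl⟩
    · exact C.conj_diagonal (C.wprod_mem_monomial L) hk
  rw [C.borel_inf_negUS_sup] at h1
  have hu1 : u = 1 := by
    rw [← Subgroup.mem_bot, ← C.US_inf_diagonal]; exact ⟨hu, h1⟩
  obtain ⟨c, rfl⟩ := C.mem_diagonal_iff.1 hh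
  exact ⟨c, by rw [e, hu1, one_mul]⟩

/-- the inner automorphisms among graph · diagonal · field -/
theorem inner_diag_field (H : CommOK C) {x : ↥(D.group F)} {χ : Fin D.rank → Fˣ} {σ : F ≃+* F}
    (h : MulAut.conj x = diagHom C χ * fieldHom C σ) : χ ∈ (cartMap C (F := F)).range ∧ σ = 1 := by
  have hfix : ∀ S, Fix (MulAut.conj x) (C.US F S) := fun S => by
    rw [h]; exact Fix.trans (fix_fieldHom C σ S) (fix_diagHom C χ S)
  obtain ⟨c, hc⟩ := conj_fix_diag C H (hfix _) (hfix _)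
  have hx : x = ⟨C.HT F c, C.HT_mem_group c⟩ := Subtype.ext hc
  rw [hx, conj_diag C] at h
  have hval : ∀ i t, (cartMap C c i : F) * t = (χ i : F) * σ t := fun i t => by
    have h1 := DFunLike.congr_fun h (GX C F (C.p i) t)
    rw [MulAut.mul_apply, fieldHom_GX, diagHom_p, diagHom_p] at h1
    exact GX_inj C h1
  have heq : cartMap C c = χ := funext fun i => Units.ext (by simpa using hval i 1)
  refine ⟨⟨c, heq⟩, RingEquiv.ext fun t => ?_⟩
  have h2 := hval ⟨0, C.rank_pos⟩ t
  rw [heq] at h2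
  exact (mul_left_cancel₀ (Units.ne_zero _) h2).symm

end Cfsg.Agent.Lib.ChevAut
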