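import Cfsg.Agent.Lib.ChevAut.OutStructure

/-!
The cokernel of the Cartan matrix acting on tuples of units, from an integral certificate.
-/

set_option autoImplicit false
set_option linter.unusedSectionVars false

namespace Cfsg.Agent.Lib.ChevAut

open Cfsg.Lie Cfsg.Agent.Lib.ChevStructure

/-- A certificate that the cokernel of the Cartan matrix of D is cyclic of order d. -/
structure CokerData (D : ChevalleyDatum) where
  d : ℕ
  k : Fin D.rank
  lam : List ℤ
  B : List (List ℤ)
  Bd : List ℤ

namespace CokerData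

variable {D : ChevalleyDatum} (S : CokerData D)

/-- λ_m -/
def lm (m : Fin D.rank) : ℤ := S.lam.getD m.val 0
/-- B_{m j} -/
def bm (m j : Fin D.rank) : ℤ := (S.B.getD m.val []).getD j.val 0
/-- B^d_j -/
def bd (j : Fin D.rank) : ℤ := S.Bd.getD j.val 0

/-- the identities of the certificate -/
def Valid : Prop :=
  S.lm S.k = 1 ∧
    (∀ j, (∑ m, cart D j m * S.lm m) % (S.d : ℤ) = 0) ∧
    (∀ m m', ∑ j, S.bm m j * cart D j m' = (if m = m' then 1 else 0) - (if S.k = m' then S.lm m else 0)) ∧
    (∀ m', ∑ j, S.bd j * cart D j m' = if S.k = m' then (S.d : ℤ) else 0)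

instance : Decidable S.Valid := by unfold Valid; infer_instance

end CokerData

theorem zpow_fsum_aux {G : Type*} [CommGroup G] {ι : Type*} [Fintype ι] (a : G) (f : ι → ℤ) :
    a ^ (∑ i, f i) = ∏ i, a ^ f i := by
  classical
  induction (Finset.univ : Finset ι) using Finset.induction_on with
  | empty => simp
  | insert b t hb ih => rw [Finset.sum_insert hb, Finset.prod_insert hb, zpow_add, ih]

variable {D : ChevalleyDatum} (C : Core D) {F : Type*} [Field F] [Fintype F]
include C

theorem cartMap_index (S : CokerData D) (hS : S.Valid) :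
    (cartMap C (F := F)).range.index = Nat.gcd (Fintype.card F - 1) S.d := by
  classical
  obtain ⟨hk, hA, hB, hBd⟩ := hS
  set P := (powMonoidHom S.d : Fˣ →* Fˣ).range
  let Ψ : (Fin D.rank → Fˣ) →* Fˣ :=
    { toFun := fun χ => ∏ m, χ m ^ S.lm m
      map_one' := by simp
      map_mul' := fun a b => by simp [mul_zpow, Finset.prod_mul_distrib] }
  let Φ : (Fin D.rank → Fˣ) →* Fˣ ⧸ P := (QuotientGroup.mk' P).comp Ψ
  have hsurj : Function.Surjective Φ := by
    intro q
    obtain ⟨u, rfl⟩ := QuotientGroup.mk_surjective q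
    refine ⟨Pi.mulSingle S.k u, ?_⟩
    show QuotientGroup.mk (∏ m, (Pi.mulSingle S.k u : Fin D.rank → Fˣ) m ^ S.lm m) = _
    rw [Finset.prod_eq_single S.k (fun m _ hm => by simp [hm]) (by simp), Pi.mulSingle_eq_same, hk, zpow_one]
  have hker : Φ.ker = (cartMap C (F := F)).range := by
    ext χ
    constructor
    · intro hχ
      obtain ⟨y, hy⟩ := (QuotientGroup.eq_one_iff (Ψ χ)).1 hχ
      refine ⟨fun j => (∏ m, χ m ^ S.bm m j) * y ^ S.bd j, ?_⟩
      funext m'
      rw [cartMap_apply C]
      simp only [mul_zpow, Finset.prod_mul_distrib, ← Finset.prod_zpow, ← zpow_mul]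
      rw [Finset.prod_comm, ← zpow_fsum_aux y, hBd]
      have e : ∏ m, ∏ j, χ m ^ (S.bm m j * cart D j m') =
          ∏ m, χ m ^ ((if m = m' then 1 else 0) - (if S.k = m' then S.lm m else 0) : ℤ) :=
        Finset.prod_congr rfl fun m _ => by rw [← zpow_fsum_aux, hB]
      rw [e]
      by_cases hkm : S.k = m'
      · simp only [if_pos hkm, zpow_sub, Finset.prod_mul_distrib, Finset.prod_inv_distrib]
        rw [Finset.prod_eq_single m' (fun m _ hm => by simp [hm]) (by simp), zpow_natCast]
        have hy' : y ^ S.d = ∏ m, χ m ^ S.lm m := hy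
        rw [hy', if_pos rfl, zpow_one, inv_mul_cancel_right]
      · simp only [if_neg hkm, sub_zero, zpow_zero, mul_one]
        rw [Finset.prod_eq_single m' (fun m _ hm => by simp [hm]) (by simp)]
        simp
    · rintro ⟨c, rfl⟩
      rw [MonoidHom.mem_ker]
      refine (QuotientGroup.eq_one_iff _).2 ⟨∏ j, c j ^ ((∑ m, cart D j m * S.lm m) / (S.d : ℤ)), ?_⟩
      show (∏ j, c j ^ ((∑ m, cart D j m * S.lm m) / (S.d : ℤ))) ^ S.d = ∏ m, cartMap C c m ^ S.lm m
      simp only [cartMap_apply C, ← Finset.prod_zpow, ← zpow_mul, ← Finset.prod_pow, ← zpow_natCast]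
      rw [Finset.prod_comm]
      refine Finset.prod_congr rfl fun j _ => ?_
      rw [Int.ediv_mul_cancel (Int.dvd_of_emod_eq_zero (hA j)), zpow_fsum_aux]
  rw [← hker, Subgroup.index_ker, MonoidHom.range_eq_top.2 hsurj,
    Nat.card_congr Subgroup.topEquiv.toEquiv, ← Subgroup.index_eq_card]
  rw [IsCyclic.index_powMonoidHom_range, Nat.card_units, Nat.card_eq_fintype_card]

end Cfsg.Agent.Lib.ChevAut
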