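import Cfsg.Agent.Lib.ChevAut.OutBasic
import Cfsg.Agent.Lib.ChevAut.DiagramCount
import Mathlib.GroupTheory.SpecificGroups.Cyclic

/-!
The outer automorphism group of a finite Chevalley group: diagonal, field and graph parts.
-/

set_option autoImplicit false
set_option linter.unusedSectionVars false

namespace Cfsg.Agent.Lib.ChevAut

open Cfsg.Lie Cfsg.Agent.Lib.ChevStructure Cfsg.Agent.Lib.ChevBorelTits
open scoped MatrixGroups Matrix

variable {D : ChevalleyDatum} (C : Core D) {F : Type*} [Field F] [Fintype F]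
include C

/-- the projection to Out -/
abbrev toOut (_C : Core D) : MulAut ↥(D.group F) →* Cfsg.Out ↥(D.group F) := QuotientGroup.mk' (Cfsg.Inn ↥(D.group F))

/-- the diagonal part of Out -/
def dbar : Subgroup (Cfsg.Out ↥(D.group F)) := ((diagHom C (F := F)).range).map (toOut C)

/-- the field part of Out -/
def fbar : Subgroup (Cfsg.Out ↥(D.group F)) := ((fieldHom C (F := F)).range).map (toOut C)

theorem toOut_conj (x : ↥(D.group F)) : toOut C (MulAut.conj x) = 1 :=
  (QuotientGroup.eq_one_iff _).2 ⟨x, rfl⟩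

theorem exists_class (H : CommOK C) (hT : DiagramTable D) (hh : headsOK D = true)
    (hD : D ∈ [chevG2, chevB2, chevD4, chevF4, chevE6, chevE7, chevE8]) (q : Cfsg.Out ↥(D.group F)) :
    ∃ (χ : Fin D.rank → Fˣ) (π : Equiv.Perm (Fin D.rank)) (φ : MulAut ↥(D.group F)) (σ : F ≃+* F),
      D.IsDiagramSymmetry π ∧ GraphWith C π φ ∧ q = toOut C (diagHom C χ * φ * fieldHom C σ) := by
  obtain ⟨θ, rfl⟩ := QuotientGroup.mk_surjective q
  obtain ⟨x, χ, π, φ, σ, hπ, hφ, rfl⟩ := exists_decomp C H hT hh hD θ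
  refine ⟨χ, π, φ, σ, hπ, hφ, ?_⟩
  show toOut C _ = _
  simp only [map_mul, toOut_conj, one_mul]

theorem dbar_normal (H : CommOK C) (hT : DiagramTable D) (hh : headsOK D = true)
    (hD : D ∈ [chevG2, chevB2, chevD4, chevF4, chevE6, chevE7, chevE8]) : (dbar C (F := F)).Normal := by
  constructor
  rintro _ ⟨_, ⟨ψ, rfl⟩, rfl⟩ q
  obtain ⟨χ, π, φ, σ, -, hφ, rfl⟩ := exists_class C H hT hh hD q
  rw [← map_mul, ← map_inv, ← map_mul]
  refine ⟨_, ⟨χ * graphChar C π (fun k => Units.map σ.toRingHom.toMonoidHom (ψ k)) * χ⁻¹, rfl⟩, ?_⟩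
  congr 1
  symm
  rw [mul_inv_eq_iff_eq_mul, mul_assoc, field_diag C, ← mul_assoc, mul_assoc (diagHom C χ), graph_diag C hφ,
    map_mul, map_mul, map_inv]
  group

theorem dbar_comm : IsMulCommutative ↥(dbar C (F := F)) := by
  refine ⟨⟨fun a b => Subtype.ext ?_⟩⟩
  obtain ⟨_, ⟨χ, rfl⟩, ha⟩ := a.2
  obtain ⟨_, ⟨ψ, rfl⟩, hb⟩ := b.2
  rw [Subgroup.coe_mul, Subgroup.coe_mul, ← ha, ← hb, ← map_mul, ← map_mul, ← map_mul, ← map_mul, mul_comm χ]

theorem isCyclic_gal : IsCyclic (F ≃+* F) := by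
  obtain ⟨p, hp⟩ := CharP.exists F
  haveI : Fact p.Prime := ⟨CharP.char_is_prime F p⟩
  letI := ZMod.algebra F p
  let e : Gal(F/ZMod p) →* (F ≃+* F) :=
    { toFun := fun a => a.toRingEquiv, map_one' := rfl, map_mul' := fun a b => rfl }
  refine isCyclic_of_surjective e fun σ => ⟨AlgEquiv.ofRingEquiv (f := σ) fun x => ?_, RingEquiv.ext fun x => rfl⟩
  exact RingHom.congr_fun (Subsingleton.elim (σ.toRingHom.comp (algebraMap (ZMod p) F)) (algebraMap (ZMod p) F)) x

theorem fbar_cyclic : IsCyclic ↥(fbar C (F := F)) := by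
  haveI := isCyclic_gal C (F := F)
  have hr : fbar C (F := F) = ((toOut C).comp (fieldHom C)).range := by
    rw [fbar, MonoidHom.range_comp]
  rw [hr]
  exact isCyclic_of_surjective _ (MonoidHom.rangeRestrict_surjective _)

theorem dfbar_normal (H : CommOK C) (hT : DiagramTable D) (hh : headsOK D = true)
    (hD : D ∈ [chevG2, chevB2, chevD4, chevF4, chevE6, chevE7, chevE8]) :
    (dbar C (F := F) ⊔ fbar C).Normal := by
  haveI hn := dbar_normal C (F := F) H hT hh hD
  constructor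
  intro z hz q
  rw [← SetLike.mem_coe, Subgroup.normal_mul] at hz
  obtain ⟨d, hd, f, hf, rfl⟩ := hz
  rw [show q * (d * f) * q⁻¹ = (q * d * q⁻¹) * (q * f * q⁻¹) by group]
  refine mul_mem (Subgroup.mem_sup_left (hn.conj_mem d hd q)) ?_
  obtain ⟨_, ⟨τ, rfl⟩, rfl⟩ := hf
  obtain ⟨χ, π, φ, σ, -, hφ, rfl⟩ := exists_class C H hT hh hD q
  haveI := isCyclic_gal C (F := F)
  obtain ⟨g, hg⟩ := IsCyclic.exists_generator (α := F ≃+* F)
  have hcomm : σ * τ = τ * σ := by
    obtain ⟨a, rfl⟩ := hg σ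
    obtain ⟨b, rfl⟩ := hg τ
    simp only [← zpow_add, add_comm]
  have e : diagHom C χ * φ * fieldHom C σ * fieldHom C τ * (diagHom C χ * φ * fieldHom C σ)⁻¹ =
      diagHom C χ * fieldHom C τ * (diagHom C χ)⁻¹ := by
    rw [mul_inv_eq_iff_eq_mul]
    calc diagHom C χ * φ * fieldHom C σ * fieldHom C τ
        = diagHom C χ * (φ * fieldHom C τ) * fieldHom C σ := by
          rw [mul_assoc, ← map_mul, hcomm, map_mul]; group
      _ = _ := by rw [graph_field C hφ]; group
  rw [← map_mul, ← map_inv, ← map_mul, e, map_mul, map_mul, map_inv]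
  exact mul_mem (mul_mem (Subgroup.mem_sup_left ⟨_, ⟨χ, rfl⟩, rfl⟩)
    (Subgroup.mem_sup_right ⟨_, ⟨τ, rfl⟩, rfl⟩)) (inv_mem (Subgroup.mem_sup_left ⟨_, ⟨χ, rfl⟩, rfl⟩))

theorem adjPerm_of_symm (hT : DiagramTable D) {π : Equiv.Perm (Fin D.rank)}
    (hπ : D.IsDiagramSymmetry π) : AdjPerm D π := by
  intro i j hij
  have hb : cart D (π i) (π j) * cart D (π j) (π i) = cart D i j * cart D j i := hπ i j hij
  constructor
  · intro h
    by_contra hne
    rw [h, zero_mul] at hb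
    exact mul_ne_zero hne (hT.2.2.1 _ _ (fun e => hij (π.injective e)) hne) hb
  · intro h
    by_contra hne
    rw [h, zero_mul] at hb
    exact mul_ne_zero hne (hT.2.2.1 _ _ hij hne) hb.symm

/-- The index of DF is at most the number of diagram symmetries that carry graph automorphisms. -/
theorem index_le (H : CommOK C) (hT : DiagramTable D) (hh : headsOK D = true)
    (hD : D ∈ [chevG2, chevB2, chevD4, chevF4, chevE6, chevE7, chevE8]) :
    (dbar C (F := F) ⊔ fbar C).index ≤ Nat.card {π : Equiv.Perm (Fin D.rank) // AdjPerm D π} := by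
  classical
  haveI := dfbar_normal C (F := F) H hT hh hD
  let φ₀ : Equiv.Perm (Fin D.rank) → MulAut ↥(D.group F) := fun π =>
    if h : ∃ φ, GraphWith C π φ then h.choose else 1
  refine Nat.card_le_card_of_surjective
    (fun π : {π : Equiv.Perm (Fin D.rank) // AdjPerm D π} =>
      (QuotientGroup.mk (toOut C (φ₀ π.1)) : Cfsg.Out ↥(D.group F) ⧸ (dbar C (F := F) ⊔ fbar C))) ?_
  intro q
  obtain ⟨q, rfl⟩ := QuotientGroup.mk_surjective q
  obtain ⟨χ, π, φ, σ, hπ, hφ, rfl⟩ := exists_class C H hT hh hD q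
  refine ⟨⟨π, adjPerm_of_symm C hT hπ⟩, ?_⟩
  have hex : ∃ φ, GraphWith C π φ := ⟨φ, hφ⟩
  have e : φ₀ π = φ := by
    simp only [φ₀, dif_pos hex]
    exact hex.choose_spec.unique C hφ
  dsimp only
  have h1 : (QuotientGroup.mk (toOut C (diagHom C χ)) : Cfsg.Out ↥(D.group F) ⧸ (dbar C (F := F) ⊔ fbar C)) = 1 :=
    (QuotientGroup.eq_one_iff _).2 (Subgroup.mem_sup_left (show toOut C (diagHom C χ) ∈ dbar C from ⟨_, ⟨χ, rfl⟩, rfl⟩))
  have h2 : (QuotientGroup.mk (toOut C (fieldHom C σ)) : Cfsg.Out ↥(D.group F) ⧸ (dbar C (F := F) ⊔ fbar C)) = 1 :=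
    (QuotientGroup.eq_one_iff _).2 (Subgroup.mem_sup_right (show toOut C (fieldHom C σ) ∈ fbar C from ⟨_, ⟨σ, rfl⟩, rfl⟩))
  rw [e, map_mul, map_mul, QuotientGroup.mk_mul, QuotientGroup.mk_mul, h1, h2, one_mul, mul_one]

/-- Two products diagonal · graph · field with the same class agree in π, in σ and in the torus class. -/
theorem class_eq (H : CommOK C) {π π' : Equiv.Perm (Fin D.rank)} {φ φ' : MulAut ↥(D.group F)}
    (hφ : GraphWith C π φ) (hφ' : GraphWith C π' φ')
    (hfix : Fix φ (C.US F C.Pos) ∧ Fix φ (C.US F C.Neg))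
    (hfix' : Fix φ' (C.US F C.Pos) ∧ Fix φ' (C.US F C.Neg))
    {χ χ' : Fin D.rank → Fˣ} {σ σ' : F ≃+* F}
    (h : toOut C (diagHom C χ * φ * fieldHom C σ) = toOut C (diagHom C χ' * φ' * fieldHom C σ')) :
    π' = π ∧ σ' = σ ∧ χ'⁻¹ * χ ∈ (cartMap C (F := F)).range := by
  obtain ⟨z, hz, hz'⟩ := (QuotientGroup.mk'_eq_mk' _).1 h
  obtain ⟨x, rfl⟩ := hz
  have hprod : ∀ {S : Set (Rt D)} {ψ : MulAut ↥(D.group F)} (χ : Fin D.rank → Fˣ) (σ : F ≃+* F),
      Fix ψ (C.US F S) → Fix (diagHom C χ * ψ * fieldHom C σ) (C.US F S) := fun χ σ hψ =>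
    Fix.trans (fix_fieldHom C σ _) (Fix.trans hψ (fix_diagHom C χ _))
  have hx : MulAut.conj x = (diagHom C χ * φ * fieldHom C σ)⁻¹ * (diagHom C χ' * φ' * fieldHom C σ') := by
    rw [← hz']; group
  obtain ⟨c, hc⟩ := conj_fix_diag C H
    (x := x) (by rw [hx]; exact Fix.trans (hprod χ' σ' hfix'.1) (Fix.symm (hprod χ σ hfix.1)))
    (by rw [hx]; exact Fix.trans (hprod χ' σ' hfix'.2) (Fix.symm (hprod χ σ hfix.2)))
  have hx' : x = ⟨C.HT F c, C.HT_mem_group c⟩ := Subtype.ext hc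
  rw [hx', conj_diag C, mul_assoc (diagHom C χ * φ), field_diag C, mul_assoc (diagHom C χ), ← mul_assoc φ,
    graph_diag C hφ, ← mul_assoc, ← mul_assoc, ← map_mul] at hz'
  set η := χ * graphChar C π (fun k => Units.map σ.toRingHom.toMonoidHom (cartMap C c k)) with hη
  have hi : ∀ i t, GX C F (C.p (π i)) ((η (π i) : F) * σ t ^ gexp C F π i) =
      GX C F (C.p (π' i)) ((χ' (π' i) : F) * σ' t ^ gexp C F π' i) := by
    intro i t
    have h1 := DFunLike.congr_fun hz' (GX C F (C.p i) t)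
    simpa only [MulAut.mul_apply, fieldHom_GX, (hφ i _).1, (hφ' i _).1, diagHom_p] using h1
  have hππ : π' = π := by
    refine Equiv.ext fun i => C.p_inj ?_
    have h1 := hi i 1
    simp only [map_one, one_pow, mul_one] at h1
    exact (GX_inj_root C h1 (Units.ne_zero _)).symm
  subst hππ
  have hval : η = χ' := by
    funext k
    have h1 := hi (π'.symm k) 1
    simp only [map_one, one_pow, mul_one, Equiv.apply_symm_apply] at h1
    exact Units.ext (GX_inj C h1)
  have hσ : σ' = σ := by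
    have hφφ : φ' = φ := GraphWith.unique C hφ' hφ
    rw [hφφ, hval] at hz'
    have h2 := mul_left_cancel hz'
    refine RingEquiv.ext fun t => ?_
    have h3 := DFunLike.congr_fun h2 (GX C F (C.p ⟨0, C.rank_pos⟩) t)
    rw [fieldHom_GX, fieldHom_GX] at h3
    exact (GX_inj C h3).symm
  refine ⟨rfl, hσ, ?_⟩
  -- the correction lies in the torus: conj of x by the graph and field part
  have key : ∀ ψ : Fin D.rank → Fˣ, ψ ∈ (cartMap C (F := F)).range →
      graphChar C π' (fun k => Units.map σ.toRingHom.toMonoidHom (ψ k)) ∈ (cartMap C (F := F)).range := by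
    intro ψ hψ
    obtain ⟨a, rfl⟩ := hψ
    set y : ↥(D.group F) := ⟨C.HT F a, C.HT_mem_group a⟩
    set Φ : MulAut ↥(D.group F) := φ * fieldHom C σ
    have e1 : MulAut.conj (Φ y) = Φ * MulAut.conj y * Φ⁻¹ := by
      refine MulEquiv.ext fun w => ?_
      simp [map_mul, map_inv]
    have e2 : Φ * MulAut.conj y * Φ⁻¹ =
        diagHom C (graphChar C π' fun k => Units.map σ.toRingHom.toMonoidHom (cartMap C a k)) := by
      rw [conj_diag C, mul_inv_eq_iff_eq_mul]
      show φ * fieldHom C σ * diagHom C _ = _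
      rw [mul_assoc, field_diag C, ← mul_assoc, graph_diag C hφ, mul_assoc]
    obtain ⟨⟨b, hb⟩, -⟩ := inner_diag_field C H (x := Φ y)
      (σ := 1) (χ := graphChar C π' fun k => Units.map σ.toRingHom.toMonoidHom (cartMap C a k))
      (by rw [map_one, mul_one, e1, e2])
    exact ⟨b, hb⟩
  rw [← hval, hη, mul_inv_rev, mul_assoc, inv_mul_cancel, mul_one]
  exact inv_mem (key _ ⟨c, rfl⟩)

/-- A family of graph automorphisms, one for each symmetry that has one. -/
structure GraphFamily (H : CommOK C) (Γ : Type) where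
  perm : Γ → Equiv.Perm (Fin D.rank)
  aut : Γ → MulAut ↥(D.group F)
  spec : ∀ γ, GraphWith C (perm γ) (aut γ)
  fix : ∀ γ, Fix (aut γ) (C.US F C.Pos) ∧ Fix (aut γ) (C.US F C.Neg)
  inj : Function.Injective perm
  complete : ∀ (π : Equiv.Perm (Fin D.rank)) (φ : MulAut ↥(D.group F)), D.IsDiagramSymmetry π → GraphWith C π φ → ∃ γ, perm γ = π

/-- The order of Out. -/
theorem card_out {Γ : Type} (H : CommOK C) (hT : DiagramTable D) (hh : headsOK D = true)
    (hD : D ∈ [chevG2, chevB2, chevD4, chevF4, chevE6, chevE7, chevE8])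
    (fam : GraphFamily C (F := F) H Γ) :
    Nat.card (Cfsg.Out ↥(D.group F)) =
      Nat.card Γ * (cartMap C (F := F)).range.index * Nat.card (F ≃+* F) := by
  set K := (cartMap C (F := F)).range
  let q0 : ((Fin D.rank → Fˣ) ⧸ K) →* Cfsg.Out ↥(D.group F) :=
    QuotientGroup.lift K ((toOut C).comp (diagHom C)) (by
      rintro _ ⟨c, rfl⟩
      rw [MonoidHom.mem_ker, MonoidHom.comp_apply, ← conj_diag C, toOut_conj])
  let Φ : Γ × ((Fin D.rank → Fˣ) ⧸ K) × (F ≃+* F) → Cfsg.Out ↥(D.group F) := fun x =>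
    q0 x.2.1 * toOut C (fam.aut x.1) * toOut C (fieldHom C x.2.2)
  have hb : Function.Bijective Φ := by
    constructor
    · rintro ⟨γ, a, σ⟩ ⟨γ', a', σ'⟩ h
      obtain ⟨χ, rfl⟩ := QuotientGroup.mk_surjective a
      obtain ⟨χ', rfl⟩ := QuotientGroup.mk_surjective a'
      simp only [Φ, q0, QuotientGroup.lift_mk, MonoidHom.comp_apply, ← map_mul] at h
      obtain ⟨hπ, hσ, hK⟩ := class_eq C H (fam.spec γ) (fam.spec γ') (fam.fix γ) (fam.fix γ') h
      have hγ := fam.inj hπ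
      subst hγ; subst hσ
      refine Prod.ext rfl (Prod.ext ?_ rfl)
      exact ((QuotientGroup.eq (a := χ') (b := χ)).2 hK).symm
    · intro q
      obtain ⟨χ, π, φ, σ, hπ, hφ, rfl⟩ := exists_class C H hT hh hD q
      obtain ⟨γ, rfl⟩ := fam.complete π φ hπ hφ
      refine ⟨(γ, QuotientGroup.mk χ, σ), ?_⟩
      simp only [Φ, q0, QuotientGroup.lift_mk, MonoidHom.comp_apply, ← map_mul]
      rw [GraphWith.unique C (fam.spec γ) hφ]
  rw [← Nat.card_eq_of_bijective Φ hb, Nat.card_prod, Nat.card_prod, Subgroup.index_eq_card, mul_assoc]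

end Cfsg.Agent.Lib.ChevAut
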