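import Cfsg.Agent.Lib.ChevAut.Normalise

/-!
An automorphism fixing U and U⁻ permutes the root subgroups of the fundamental roots and of their
negatives.
-/

set_option autoImplicit false
set_option linter.unusedSectionVars false

namespace Cfsg.Agent.Lib.ChevAut

open Cfsg.Lie Cfsg.Agent.Lib.ChevStructure Cfsg.Agent.Lib.ChevBorelTits
open scoped MatrixGroups Matrix

variable {D : ChevalleyDatum} (C : Core D) {F : Type*} [Field F] [Fintype F]
include C

theorem parabolic_le_group (J : Set ℕ) : D.parabolicSubgroup F J ≤ D.group F := by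
  unfold ChevalleyDatum.parabolicSubgroup
  refine sup_le C.borel_le_group ((Subgroup.closure_le _).2 ?_)
  rintro g ⟨j, -, hlt, hg⟩
  rw [show g = C.P F ⟨j, hlt⟩ from Units.ext (hg.trans (C.nMat_one ⟨j, hlt⟩))]
  exact C.P_mem_group _

theorem P_mem_parabolic (i : Fin D.rank) : C.P F i ∈ D.parabolicSubgroup F {i.val} :=
  Subgroup.mem_sup_right (Subgroup.subset_closure ⟨i.val, rfl, i.isLt, (C.nMat_one i).symm⟩)

theorem borel_le_parabolic' (J : Set ℕ) : D.borelSubgroup F ≤ D.parabolicSubgroup F J := le_sup_left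

theorem parabolic_singleton_le {i : Fin D.rank} {M : Subgroup (GL D.Idx F)}
    (hB : D.borelSubgroup F ≤ M) (hP : C.P F i ∈ M) : D.parabolicSubgroup F {i.val} ≤ M := by
  unfold ChevalleyDatum.parabolicSubgroup
  refine sup_le hB ((Subgroup.closure_le _).2 ?_)
  rintro g ⟨j, rfl, hlt, hg⟩
  rw [show g = C.P F i from Units.ext (hg.trans (C.nMat_one i))]
  exact hP

theorem exists_P_of_ne (H : CommOK C) {M : Subgroup (GL D.Idx F)} (hB : D.borelSubgroup F ≤ M)
    (hG : M ≤ D.group F) (hne : M ≠ D.borelSubgroup F) : ∃ k, C.P F k ∈ M := by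
  by_contra hcon
  apply hne
  refine le_antisymm ?_ hB
  refine (parHyp H F M hB hG).trans ((parabolic_mono C F ?_).trans (parabolic_empty C F))
  rintro j ⟨hj, hP⟩
  exact (hcon ⟨⟨j, hj⟩, hP⟩).elim

theorem img_parabolic (H : CommOK C) {θ : ↥(D.group F) ≃* ↥(D.group F)}
    (hU : Fix θ (C.US F C.Pos)) (i : Fin D.rank) :
    ∃ k : Fin D.rank, ∀ y : ↥(D.group F), (θ y : GL D.Idx F) ∈ D.parabolicSubgroup F {k.val} ↔
      (y : GL D.Idx F) ∈ D.parabolicSubgroup F {i.val} := by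
  have hfB := fix_borel C H hU
  have hPG := parabolic_le_group C (F := F)
  set M := img θ (D.parabolicSubgroup F {i.val}) with hM
  have hBM : D.borelSubgroup F ≤ M := by
    rw [← (fix_iff_img C.borel_le_group).1 hfB]
    exact Subgroup.map_mono (Subgroup.map_mono (fun x hx => borel_le_parabolic' C _ hx))
  have hMne : M ≠ D.borelSubgroup F := by
    intro e
    apply borel_lt_parabolic C F i
    have h1 : (θ ⟨_, C.P_mem_group i⟩ : GL D.Idx F) ∈ M := mem_img.2 (P_mem_parabolic C i)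
    rw [e] at h1
    exact (hfB ⟨_, C.P_mem_group i⟩).1 h1
  obtain ⟨k, hk⟩ := exists_P_of_ne C H hBM (img_le_group θ _) hMne
  refine ⟨k, fun y => ⟨fun hy => mem_img.1 (parabolic_singleton_le C hBM hk hy), fun hy => ?_⟩⟩
  -- the preimage of P_k is between B and P_i
  set M' := img θ.symm (D.parabolicSubgroup F {k.val}) with hM'
  have hBM' : D.borelSubgroup F ≤ M' := by
    rw [← (fix_iff_img C.borel_le_group).1 hfB.symm]
    exact Subgroup.map_mono (Subgroup.map_mono (fun x hx => borel_le_parabolic' C _ hx))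
  have hM'ne : M' ≠ D.borelSubgroup F := by
    intro e
    apply borel_lt_parabolic C F k
    have h1 : (θ.symm ⟨_, C.P_mem_group k⟩ : GL D.Idx F) ∈ M' := mem_img.2 (P_mem_parabolic C k)
    rw [e] at h1
    exact (hfB.symm ⟨_, C.P_mem_group k⟩).1 h1
  obtain ⟨l, hl⟩ := exists_P_of_ne C H hBM' (img_le_group θ.symm _) hM'ne
  have hle : ∀ z : ↥(D.group F), (z : GL D.Idx F) ∈ M' → (z : GL D.Idx F) ∈ D.parabolicSubgroup F {i.val} := by
    intro z hz
    have h1 : (θ z : GL D.Idx F) ∈ D.parabolicSubgroup F {k.val} := by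
      have := (mem_img (θ := θ.symm) (y := θ z)).1 (by rwa [θ.symm_apply_apply])
      exact this
    exact mem_img.1 (parabolic_singleton_le C hBM hk h1)
  have hli : l = i := P_mem_parabolic_iff C F H (hle ⟨_, C.P_mem_group l⟩ hl)
  subst hli
  have := parabolic_singleton_le C hBM' hl hy
  exact (mem_img (θ := θ.symm) (y := θ y)).1 (by rwa [θ.symm_apply_apply])

theorem neg_le_group : C.US F C.Neg ≤ D.group F := C.US_le_group _

theorem img_X_neg (H : CommOK C) {θ : ↥(D.group F) ≃* ↥(D.group F)}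
    (hU : Fix θ (C.US F C.Pos)) (hN : Fix θ (C.US F C.Neg)) (i : Fin D.rank) :
    ∃ k : Fin D.rank, ∀ t : F, ∃ t' : F,
      θ ⟨C.X F (C.p i).rev t, C.X_mem_group _ _⟩ = ⟨C.X F (C.p k).rev t', C.X_mem_group _ _⟩ := by
  obtain ⟨k, hk⟩ := img_parabolic C H hU i
  refine ⟨k, fun t => ?_⟩
  have h1 := (hk ⟨C.X F (C.p i).rev t, C.X_mem_group _ _⟩).2 (X_neg_mem_parabolic C F i t)
  have h2 := (hN ⟨C.X F (C.p i).rev t, C.X_mem_group _ _⟩).2 (C.X_mem_US F (p_neg_mem C i) t)
  obtain ⟨t', ht'⟩ := parabolic_inf_neg C F H k h1 h2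
  exact ⟨t', Subtype.ext ht'⟩

theorem X_inj_root {r s : Rt D} {t u : F} (h : C.X F r t = C.X F s u) (ht : t ≠ 0) : r = s := by
  by_contra hne
  exact ht (C.X_eq_X F h hne)

theorem X_inj {r : Rt D} {t u : F} (h : C.X F r t = C.X F r u) : t = u := by
  refine sub_eq_zero.1 (C.X_eq_one (r := r) ?_)
  rw [sub_eq_add_neg, ← C.X_add, h, ← C.X_inv, mul_inv_cancel]

theorem pprod_reverse : ∀ L : List (Fin D.rank), C.pprod L.reverse * C.pprod L = 1
  | [] => by simp [C.pprod_nil]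
  | a :: L => by
    rw [List.reverse_cons, C.pprod_concat, C.pprod_cons, mul_assoc, ← mul_assoc (C.sref a),
      C.sref_mul_self, one_mul, pprod_reverse L]

theorem opp_simple {L : List (Fin D.rank)} (hL : ∀ r ∈ C.Pos, C.pprod L r ∈ C.Neg) (i : Fin D.rank) :
    ∃ k, C.pprod L (C.p i).rev = C.p k := by
  set σ := C.pprod L with hσ
  set σ' := C.pprod L.reverse with hσ'
  have hinv : ∀ x, σ' (σ x) = x := fun x => by
    rw [hσ, hσ', ← Equiv.Perm.mul_apply, pprod_reverse C]; rfl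
  have hinv' : ∀ x, σ (σ' x) = x := fun x => by
    obtain ⟨y, rfl⟩ := σ.surjective x
    rw [hinv]
  have hL' : ∀ r ∈ C.Pos, σ' r ∈ C.Neg := fun r hr => by
    by_contra h
    have := hL _ (not_not.1 (fun h' => h ((C.neg_iff_not_pos _).2 h')))
    rw [hinv'] at this
    exact (C.neg_iff_not_pos _).1 this hr
  have hM : ∀ j m, C.v (σ (C.p j)) m ≤ 0 := fun j m => C.v_nonpos (hL _ (C.p_pos j)) m
  have hN : ∀ j m, C.v (σ' (C.p j)) m ≤ 0 := fun j m => C.v_nonpos (hL' _ (C.p_pos j)) m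
  -- N M = 1 and M N = 1
  have hNM : ∀ k m, ∑ j, C.v (σ' (C.p k)) j * C.v (σ (C.p j)) m = if m = k then 1 else 0 := by
    intro k m
    rw [← C.pprod_v L (σ' (C.p k)) m, ← hσ, hinv', C.v_p, Pi.single_apply]
  have hMN : ∑ k, C.v (σ (C.p i)) k * C.v (σ' (C.p k)) i = 1 := by
    rw [← C.pprod_v L.reverse (σ (C.p i)) i, ← hσ', hinv, C.v_p, Pi.single_eq_same]
  have hz : ∀ k k', C.v (σ (C.p i)) k ≠ 0 → k' ≠ k → C.v (σ' (C.p k')) i = 0 := by
    intro k k' hk hne
    have h := hNM k' k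
    rw [if_neg hne.symm] at h
    have h2 := (Finset.sum_eq_zero_iff_of_nonneg fun j _ =>
      mul_nonneg_of_nonpos_of_nonpos (hN k' j) (hM j k)).1 h i (Finset.mem_univ _)
    exact (mul_eq_zero.1 h2).resolve_right hk
  obtain ⟨k, hk⟩ : ∃ k, C.v (σ (C.p i)) k ≠ 0 := by
    by_contra hcon
    rw [not_exists_not] at hcon
    simp [hcon] at hMN
  have huniq : ∀ m, m ≠ k → C.v (σ (C.p i)) m = 0 := by
    intro m hm
    by_contra hne
    rw [Finset.sum_eq_zero] at hMN
    · simp at hMN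
    intro k' _
    by_cases h : k' = k
    · subst h; rw [hz m k' hne (Ne.symm hm), mul_zero]
    · rw [hz k k' hk h, mul_zero]
  refine ⟨k, ?_⟩
  have hpos : σ (C.p i).rev ∈ C.Pos := by
    rw [hσ, C.pprod_rev]; exact C.rev_pos (hL _ (C.p_pos i))
  refine root_eq_of_support C hpos fun m hm => ?_
  rw [hσ, C.pprod_rev, ← hσ, C.v_rev, Pi.neg_apply, huniq m hm, neg_zero]

theorem no_mixed {q : Rt D} {i k : Fin D.rank} (hne : i ≠ k) {a b : ℕ} (ha : 1 ≤ a) (hb : 1 ≤ b)
    (hv : C.v q = (a : ℤ) • C.v (C.p i) + (b : ℤ) • C.v (C.p k).rev) : False := by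
  have h1 : C.v q i = a := by rw [hv, C.v_rev, C.v_p, C.v_p]; simp [hne]
  have h2 : C.v q k = -(b : ℤ) := by rw [hv, C.v_rev, C.v_p, C.v_p]; simp [hne.symm]
  by_cases hq : q ∈ C.Pos
  · have := C.v_nonneg hq k; omega
  · have := C.v_nonpos ((C.neg_iff_not_pos q).2 hq) i; omega

theorem commute_simple (H : CommOK C) {i k : Fin D.rank} (hne : i ≠ k) (t u : F) :
    C.X F (C.p i) t * C.X F (C.p k).rev u = C.X F (C.p k).rev u * C.X F (C.p i) t := by
  have h1 : (C.p k).rev ≠ C.p i := fun h => by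
    have := C.ht_pos (C.p_pos i); rw [← h, C.ht_rev] at this
    have := C.ht_pos (C.p_pos k); omega
  have h2 : (C.p k).rev ≠ (C.p i).rev := fun h => hne (C.p_inj (Fin.rev_injective h)).symm
  have h := H.comm_X (C.p i) (C.p k).rev h1 h2 t u
  have hnil : D.commTerms (C.p i).val (C.p k).rev.val = [] := by
    rw [List.eq_nil_iff_forall_not_mem]
    intro c hc
    obtain ⟨q, -, ha, hb, hv⟩ := H.terms _ _ h1 h2 c hc
    exact no_mixed C hne ha hb hv
  rw [hnil] at h
  simpa using h.symm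

/-- θ permutes the root subgroups of the fundamental roots and of their negatives. -/
theorem exists_perm (H : CommOK C) {θ : ↥(D.group F) ≃* ↥(D.group F)}
    (hU : Fix θ (C.US F C.Pos)) (hN : Fix θ (C.US F C.Neg)) :
    ∃ π : Equiv.Perm (Fin D.rank), ∃ f g : Fin D.rank → F → F, ∀ i t,
      θ ⟨C.X F (C.p i) t, C.X_mem_group _ _⟩ = ⟨C.X F (C.p (π i)) (f i t), C.X_mem_group _ _⟩ ∧
      θ ⟨C.X F (C.p i).rev t, C.X_mem_group _ _⟩ =
        ⟨C.X F (C.p (π i)).rev (g i t), C.X_mem_group _ _⟩ := by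
  choose πn g hg using fun i => img_X_neg C H hU hN i
  -- transport by the opposition element
  obtain ⟨L, hL, hLmap⟩ := C.exists_opposition (F := F)
  set n : ↥(D.group F) := ⟨C.wprod F L, C.monomial_le_group (C.wprod_mem_monomial L)⟩ with hn
  have hLmap' : (C.US F C.Neg).map (MulAut.conj (C.wprod F L)).toMonoidHom = C.US F C.Pos := by
    rw [C.map_conj_US F (C.acts_wprod F L)]
    congr 1
    refine Set.Subset.antisymm ?_ fun s hs => ⟨(C.pprod L).symm s, ?_, Equiv.apply_symm_apply _ _⟩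
    · rintro _ ⟨r, hr, rfl⟩
      have := C.rev_pos (hL _ (C.rev_pos hr))
      rwa [C.pprod_rev, C.rev_rev] at this
    · by_contra hcon
      have := hL _ (not_not.1 fun h => hcon ((C.neg_iff_not_pos _).2 h))
      rw [Equiv.apply_symm_apply] at this
      exact (C.neg_iff_not_pos _).1 this hs
  have hswap : ∀ (A B : Subgroup (GL D.Idx F)),
      A.map (MulAut.conj (C.wprod F L)).toMonoidHom = B → ∀ y : ↥(D.group F),
      ((n * y * n⁻¹ : ↥(D.group F)) : GL D.Idx F) ∈ B ↔ (y : GL D.Idx F) ∈ A := by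
    rintro A B rfl y
    exact Subgroup.mem_map_iff_mem (f := (MulAut.conj (C.wprod F L)).toMonoidHom)
      (MulAut.conj (C.wprod F L)).injective (x := (y : GL D.Idx F))
  set θ' : ↥(D.group F) ≃* ↥(D.group F) := (innG n).trans (θ.trans (innG n⁻¹)) with hθ'
  have hθ'y : ∀ y, θ (n * y * n⁻¹) = n * θ' y * n⁻¹ := fun y => by
    simp [hθ', innG, mul_assoc]
  have hU' : Fix θ' (C.US F C.Pos) := fun y => by
    rw [← hswap _ _ hLmap, ← hθ'y, hN, hswap _ _ hLmap]
  have hN' : Fix θ' (C.US F C.Neg) := fun y => by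
    rw [← hswap _ _ hLmap', ← hθ'y, hU, hswap _ _ hLmap']
  choose πp g' hg' using fun i => img_X_neg C H hU' hN' i
  choose τ hτ using fun i => opp_simple C hL i
  have hτinj : Function.Injective τ := fun i j h => by
    have e := hτ i
    rw [h, ← hτ j] at e
    exact C.p_inj (Fin.rev_injective ((C.pprod L).injective e))
  have hτb : Function.Bijective τ := Finite.injective_iff_bijective.1 hτinj
  -- images of the positive simple root elements
  have hpos : ∀ j, ∃ k, ∀ t, ∃ t', θ ⟨C.X F (C.p j) t, C.X_mem_group _ _⟩ =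
      ⟨C.X F (C.p k) t', C.X_mem_group _ _⟩ := by
    intro j
    obtain ⟨i, rfl⟩ := hτb.2 j
    refine ⟨τ (πp i), fun t => ?_⟩
    obtain ⟨e, he⟩ := C.acts_wprod F L (C.p i).rev
    obtain ⟨e', he'⟩ := C.acts_wprod F L (C.p (πp i)).rev
    refine ⟨(e' : F) * g' i ((↑e⁻¹ : F) * t), ?_⟩
    have h1 : (⟨C.X F (C.p (τ i)) t, C.X_mem_group _ _⟩ : ↥(D.group F)) =
        n * ⟨C.X F (C.p i).rev ((↑e⁻¹ : F) * t), C.X_mem_group _ _⟩ * n⁻¹ := by
      apply Subtype.ext
      show _ = C.wprod F L * C.X F (C.p i).rev _ * (C.wprod F L)⁻¹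
      rw [he, Units.mul_inv_cancel_left, hτ]
    rw [h1, hθ'y, hg']
    apply Subtype.ext
    show C.wprod F L * C.X F (C.p (πp i)).rev _ * (C.wprod F L)⁻¹ = _
    rw [he', hτ]
  choose πq f hf using hpos
  -- the two permutations agree
  have hfne : ∀ i, f i 1 ≠ 0 := fun i h0 => by
    have := hf i 1
    rw [h0] at this
    have h2 : (⟨C.X F (C.p i) 1, C.X_mem_group _ _⟩ : ↥(D.group F)) = 1 := by
      apply θ.injective
      rw [map_one, this]
      exact Subtype.ext (C.X_zero F _)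
    exact one_ne_zero (C.X_eq_one (congrArg Subtype.val h2))
  have heq : ∀ i, πq i = πn i := by
    intro i
    by_contra hne
    have hcomm : C.X F (C.p (πq i)) (f i 1) * C.X F (C.p (πn i)).rev (g i 1) =
        C.X F (C.p (πn i)).rev (g i 1) * C.X F (C.p (πq i)) (f i 1) :=
      commute_simple C H hne _ _
    have h3 : (⟨C.X F (C.p i) 1, C.X_mem_group _ _⟩ : ↥(D.group F)) * ⟨C.X F (C.p i).rev 1, C.X_mem_group _ _⟩ =
        ⟨C.X F (C.p i).rev 1, C.X_mem_group _ _⟩ * ⟨C.X F (C.p i) 1, C.X_mem_group _ _⟩ := by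
      apply θ.injective
      rw [map_mul, map_mul, hf, hg]
      exact Subtype.ext hcomm
    have h4 : C.X F (C.p i) 1 * C.X F (C.p i).rev 1 = C.X F (C.p i).rev 1 * C.X F (C.p i) 1 :=
      congrArg Subtype.val h3
    exact one_ne_zero (conj_rigid C F i one_ne_zero (mul_inv_eq_iff_eq_mul.2 h4))
  have hinj : Function.Injective πn := by
    intro i j h
    by_contra hne
    have hcomm : C.X F (C.p i) 1 * C.X F (C.p j).rev 1 = C.X F (C.p j).rev 1 * C.X F (C.p i) 1 :=
      commute_simple C H hne _ _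
    have h3 := congrArg θ (Subtype.ext hcomm :
      (⟨C.X F (C.p i) 1, C.X_mem_group _ _⟩ : ↥(D.group F)) * ⟨C.X F (C.p j).rev 1, C.X_mem_group _ _⟩ =
        ⟨C.X F (C.p j).rev 1, C.X_mem_group _ _⟩ * ⟨C.X F (C.p i) 1, C.X_mem_group _ _⟩)
    rw [map_mul, map_mul, hf, hg, heq, h] at h3
    have h4 : C.X F (C.p (πn j)) (f i 1) * C.X F (C.p (πn j)).rev (g j 1) =
        C.X F (C.p (πn j)).rev (g j 1) * C.X F (C.p (πn j)) (f i 1) := congrArg Subtype.val h3
    refine hfne i (conj_rigid C F _ (fun h0 => ?_) (mul_inv_eq_iff_eq_mul.2 h4))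
    have := hg j 1
    rw [h0] at this
    have h2 : (⟨C.X F (C.p j).rev 1, C.X_mem_group _ _⟩ : ↥(D.group F)) = 1 := by
      apply θ.injective
      rw [map_one, this]
      exact Subtype.ext (C.X_zero F _)
    exact one_ne_zero (C.X_eq_one (congrArg Subtype.val h2))
  refine ⟨Equiv.ofBijective πn (Finite.injective_iff_bijective.1 hinj), f, g, fun i t => ⟨?_, hg i t⟩⟩
  rw [hf, heq]
  rfl

end Cfsg.Agent.Lib.ChevAut
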