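import Cfsg.Agent.Lib.ChevBorelTits.ParabolicCharP

/-!
Rank-one identities and the structure of the minimal parabolic subgroups of a Chevalley group.
-/

set_option autoImplicit false
set_option linter.unusedSectionVars false

namespace Cfsg.Agent.Lib.ChevAut

open Cfsg.Lie Cfsg.Agent.Lib.ChevStructure Cfsg.Agent.Lib.ChevBorelTits
open scoped MatrixGroups Matrix

variable {D : ChevalleyDatum} (C : Core D) (F : Type*) [Field F] [Fintype F]
include C

theorem w_p_rev (i : Fin D.rank) : C.w i (C.p i).rev = C.p i := by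
  rw [C.w_rev, C.w_p, C.rev_rev]

theorem P_conj_hD (i : Fin D.rank) (r : Rt D) (t : Fˣ) :
    C.P F i * Core.hD F r t * (C.P F i)⁻¹ = Core.hD F (C.w i r) t := by
  rw [Core.hD, C.P_diag_conj, Core.hD]
  congr 1
  funext s
  rw [← C.pr_w i r (C.w i s), C.w_w]

theorem P_conj_diag (i : Fin D.rank) {h : GL D.Idx F} (hh : h ∈ D.diagonalSubgroup F) :
    C.P F i * h * (C.P F i)⁻¹ ∈ D.diagonalSubgroup F := by
  have hle : D.diagonalSubgroup F ≤
      (D.diagonalSubgroup F).comap (MulAut.conj (C.P F i)).toMonoidHom := by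
    refine (Subgroup.closure_le _).2 ?_
    rintro g ⟨r, t, hr, ht, hg⟩
    have e : g = Core.hD F (⟨r, hr⟩ : Rt D) (Units.mk0 t ht) := Units.ext (by rw [hg, ← C.hMat_eq]; rfl)
    subst e
    show C.P F i * _ * (C.P F i)⁻¹ ∈ D.diagonalSubgroup F
    rw [P_conj_hD C F]
    exact hD_mem_diag C F _ _
  exact hle hh

theorem P_conj_diag' (i : Fin D.rank) {h : GL D.Idx F} (hh : h ∈ D.diagonalSubgroup F) :
    (C.P F i)⁻¹ * h * C.P F i ∈ D.diagonalSubgroup F := by
  have hPP : C.P F i * C.P F i ∈ D.diagonalSubgroup F := by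
    rw [Core.P, C.nR_mul]; exact hD_mem_diag C F _ _
  have h1 := P_conj_diag C F i hh
  have h2 : (C.P F i)⁻¹ * h * C.P F i =
      (C.P F i * C.P F i)⁻¹ * (C.P F i * h * (C.P F i)⁻¹) * (C.P F i * C.P F i) := by group
  rw [h2]
  exact mul_mem (mul_mem (inv_mem hPP) h1) hPP

/-- n_p(t) is n_p up to a diagonal factor. -/
theorem nR_eq (i : Fin D.rank) (t : Fˣ) :
    C.nR F (C.p i) t = Core.hD F (C.p i) t * C.P F i := by
  rw [← C.hR_eq, mul_assoc, Core.P, ← C.nR_inv F (C.p i) 1, inv_mul_cancel, mul_one]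

/-- x_{-p}(s) in the big cell. -/
theorem X_neg_eq (i : Fin D.rank) (s : Fˣ) :
    C.X F (C.p i).rev (s : F) =
      C.X F (C.p i) ((s⁻¹ : Fˣ) : F) * C.nR F (C.p i) (-s⁻¹) * C.X F (C.p i) ((s⁻¹ : Fˣ) : F) := by
  have e1 : C.nR F (C.p i) (-s⁻¹) = C.X F (C.p i) (-((s⁻¹ : Fˣ) : F)) * C.X F (C.p i).rev (s : F) *
      C.X F (C.p i) (-((s⁻¹ : Fˣ) : F)) := by
    simp [Core.nR, inv_neg]
  rw [e1, ← C.X_inv]
  group

theorem hD_X_conj (r s : Rt D) (c : Fˣ) (t : F) :
    Core.hD F r c * C.X F s t * (Core.hD F r c)⁻¹ = C.X F s (((c ^ pr D r s : Fˣ) : F) * t) := by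
  rw [C.hD_X, mul_inv_cancel_right]

theorem p_neg_mem (i : Fin D.rank) : (C.p i).rev ∈ C.Neg := by
  rw [C.neg_iff_ht, C.ht_rev]
  have := C.ht_pos (p_pos C i)
  omega

theorem X_mem_borel {r : Rt D} (h : r ∈ C.Pos) (t : F) : C.X F r t ∈ D.borelSubgroup F := by
  rw [C.borel_eq]; exact Subgroup.mem_sup_left (C.X_mem_US F h t)

theorem diag_le_borel : D.diagonalSubgroup F ≤ D.borelSubgroup F := le_sup_right

theorem pr_p_rev (i : Fin D.rank) : pr D (C.p i) (C.p i).rev = -2 := by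
  rw [C.pr_p, C.A_rev, C.A_p]

/-- n_p(u) carries X_p into X_{-p}. -/
theorem nR_conj_X (i : Fin D.rank) (u : Fˣ) (t : F) :
    C.nR F (C.p i) u * C.X F (C.p i) t * (C.nR F (C.p i) u)⁻¹ =
      C.X F (C.p i).rev (-(((u : F)⁻¹) ^ 2 * t)) := by
  rw [nR_eq C F, show Core.hD F (C.p i) u * C.P F i * C.X F (C.p i) t * (Core.hD F (C.p i) u * C.P F i)⁻¹ =
      Core.hD F (C.p i) u * (C.P F i * C.X F (C.p i) t * (C.P F i)⁻¹) * (Core.hD F (C.p i) u)⁻¹ by group,
      C.P_X_conj, hD_X_conj C F, C.w_p, C.η_p, pr_p_rev C]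
  congr 1
  rw [show (-2 : ℤ) = -((2 : ℕ) : ℤ) from rfl, zpow_neg, zpow_natCast, Units.val_inv_eq_inv_val,
    Units.val_pow_eq_pow_val, inv_pow]
  push_cast
  ring

theorem nR_inv_conj_X (i : Fin D.rank) (u : Fˣ) (t : F) :
    (C.nR F (C.p i) u)⁻¹ * C.X F (C.p i) t * C.nR F (C.p i) u =
      C.X F (C.p i).rev (-(((u : F)⁻¹) ^ 2 * t)) := by
  have h := nR_conj_X C F i (-u) t
  rw [← C.nR_inv, inv_inv, Units.val_neg, inv_neg, neg_sq] at h
  exact h

/-- A non-trivial element of X_{-p} is moved out of X_{-p} by conjugation with a non-trivial element of X_p. -/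
theorem conj_rigid (i : Fin D.rank) {x s s' : F} (hs : s ≠ 0)
    (h : C.X F (C.p i) x * C.X F (C.p i).rev s * (C.X F (C.p i) x)⁻¹ = C.X F (C.p i).rev s') : x = 0 := by
  have hs' : s' ≠ 0 := by
    rintro rfl
    rw [C.X_zero, mul_inv_eq_iff_eq_mul, one_mul, mul_eq_left] at h
    exact hs ((C.x_eq_one_iff (C.p i).rev s).1 (congrArg Units.val h))
  set S : Fˣ := Units.mk0 s hs with hS
  set S' : Fˣ := Units.mk0 s' hs' with hS'
  set n := C.nR F (C.p i) (-S⁻¹) with hn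
  set n' := C.nR F (C.p i) (-S'⁻¹) with hn'
  set α := -((((-S⁻¹ : Fˣ) : F)⁻¹) ^ 2 * (x + ((S⁻¹ : Fˣ) : F))) with hα
  set α' := -((((-S'⁻¹ : Fˣ) : F)⁻¹) ^ 2 * ((S'⁻¹ : Fˣ) : F)) with hα'
  set β := ((S⁻¹ : Fˣ) : F) with hβ
  set β' := ((S'⁻¹ : Fˣ) : F) + x with hβ'
  have h1 : n * C.X F (C.p i).rev α * C.X F (C.p i) β = n' * C.X F (C.p i).rev α' * C.X F (C.p i) β' := by
    rw [hα, hα', ← nR_inv_conj_X C F, ← nR_inv_conj_X C F, hβ', ← C.X_add F (C.p i) _ x, hn, hn']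
    have hl : C.X F (C.p i).rev s = _ := X_neg_eq C F i S
    have hr : C.X F (C.p i).rev s' = _ := X_neg_eq C F i S'
    rw [hl, hr, mul_inv_eq_iff_eq_mul] at h
    rw [← C.X_add F (C.p i) x]
    simp only [mul_assoc, mul_inv_cancel_left] at h ⊢
    exact h
  set k := n'⁻¹ * n with hk
  have hkd : k ∈ D.diagonalSubgroup F := by
    rw [hk, hn', hn, C.nR_inv, C.nR_mul]
    exact hD_mem_diag C F _ _
  -- compare the factors of k X_{-p}(α) X_p(β) = X_{-p}(α') X_p(β')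
  have h2 : (C.X F (C.p i).rev α')⁻¹ * k * C.X F (C.p i).rev α =
      C.X F (C.p i) β' * (C.X F (C.p i) β)⁻¹ := by
    rw [eq_mul_inv_iff_mul_eq, hk]
    calc _ = (C.X F (C.p i).rev α')⁻¹ * n'⁻¹ * (n * C.X F (C.p i).rev α * C.X F (C.p i) β) := by group
      _ = C.X F (C.p i) β' := by rw [h1]; group
  rw [C.X_inv F (C.p i) β, C.X_add] at h2
  have h3 : C.X F (C.p i) (β' + -β) ∈ D.diagonalSubgroup F := by
    rw [← C.borel_inf_negUS_sup]
    refine ⟨X_mem_borel C F (p_pos C i) _, ?_⟩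
    show C.X F (C.p i) (β' + -β) ∈ C.US F C.Neg ⊔ D.diagonalSubgroup F
    rw [← h2]
    exact mul_mem (mul_mem (inv_mem (Subgroup.mem_sup_left (C.X_mem_US F (p_neg_mem C i) _)))
      (Subgroup.mem_sup_right hkd)) (Subgroup.mem_sup_left (C.X_mem_US F (p_neg_mem C i) _))
  have h4 : β' + -β = 0 := by
    refine (C.x_eq_one_iff (C.p i) _).1 (congrArg Units.val (?_ : C.X F (C.p i) (β' + -β) = 1))
    rw [← Subgroup.mem_bot, ← C.US_inf_diagonal]
    exact ⟨C.X_mem_US F (p_pos C i) _, h3⟩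
  rw [h4, C.X_zero] at h2
  have h5 : k = C.X F (C.p i).rev (α' + -α) := by
    rw [← C.X_add, ← C.X_inv F (C.p i).rev α]
    calc k = C.X F (C.p i).rev α' * ((C.X F (C.p i).rev α')⁻¹ * k * C.X F (C.p i).rev α) *
        (C.X F (C.p i).rev α)⁻¹ := by group
      _ = _ := by rw [h2, mul_one]
  have h6 : α' + -α = 0 := by
    refine (C.x_eq_one_iff (C.p i).rev _).1 (congrArg Units.val (?_ : C.X F (C.p i).rev (α' + -α) = 1))
    rw [← Subgroup.mem_bot, ← C.borel_inf_negUS, ← h5]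
    exact ⟨diag_le_borel C F hkd, h5 ▸ C.X_mem_US F (p_neg_mem C i) _⟩
  have hv : ((S⁻¹ : Fˣ) : F) = s⁻¹ := Units.val_inv_eq_inv_val S
  have hv' : ((S'⁻¹ : Fˣ) : F) = s'⁻¹ := Units.val_inv_eq_inv_val S'
  simp only [hβ', hβ, hv, hv'] at h4
  simp only [hα', hα, hv, hv', Units.val_neg, inv_neg, inv_inv, neg_sq] at h6
  field_simp at h4 h6
  have h7 : (s' - s) ^ 2 = 0 := by grobner
  have h8 : s' = s := sub_eq_zero.1 ((pow_eq_zero_iff two_ne_zero).1 h7)
  subst h8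
  grobner

/-- U without the root p_i. -/
noncomputable def zJ (C : Core D) (i : Fin D.rank) : Fin D.rank → ℝ := outJ C {i.val}

theorem zJ_self (i : Fin D.rank) : zJ C i i = 0 := (outJ_eq_zero C).2 (Set.mem_singleton _)

theorem zJ_other {i k : Fin D.rank} (h : k ≠ i) : zJ C i k = 1 := by
  simp [zJ, outJ, Fin.val_ne_of_ne h]

theorem root_eq_of_support {i : Fin D.rank} {r : Rt D} (hr : r ∈ C.Pos)
    (h : ∀ m, m ≠ i → C.v r m = 0) : r = C.p i := by
  have hv : C.v r = C.v r i • C.v (C.p i) := by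
    funext m
    by_cases hm : m = i
    · subst hm; simp [C.v_p]
    · simp [C.v_p, h m hm, hm]
  have hsupp : ∀ j, j ≠ i → co D r j = 0 := fun j hj => (co_eq_zero_iff C r j).2 (h j hj)
  have hA : A D i r = C.v r i * 2 := by
    rw [C.A_lin i r, Finset.sum_eq_single i (fun j _ hj => by rw [h j hj, zero_mul]) (by simp), C.A_p]
  have hpr := C.pr_self r
  rw [pr, Finset.sum_eq_single i (fun j _ hj => by rw [hsupp j hj, zero_mul]) (by simp), hA] at hpr
  have h1 : co D r i * C.v r i = 1 := by linarith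
  have hone : C.v r i = 1 := by
    have := C.v_sign r hr i
    rcases Int.eq_one_or_neg_one_of_mul_eq_one (mul_comm (co D r i) _ ▸ h1) with h2 | h2 <;> omega
  exact C.v_inj (by rw [hv, hone, one_smul])

theorem pos_split {i : Fin D.rank} {r : Rt D} (hr : r ∈ C.Pos) (hne : r ≠ C.p i) :
    (1 : ℝ) ≤ val C (zJ C i) r := by
  obtain ⟨m, hm, hv⟩ : ∃ m, m ≠ i ∧ C.v r m ≠ 0 := by
    by_contra hcon
    exact hne (root_eq_of_support C hr fun m hm => by_contra fun h => hcon ⟨m, hm, h⟩)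
  have hge : ∀ m, 0 ≤ (C.v r m : ℝ) * zJ C i m := fun m =>
    mul_nonneg (by exact_mod_cast C.v_sign r hr m) (outJ_nonneg C _ m)
  refine le_trans ?_ (Finset.single_le_sum (fun m _ => hge m) (Finset.mem_univ m))
  rw [zJ_other C hm, mul_one]
  have := C.v_sign r hr m
  have h1 : (1 : ℤ) ≤ C.v r m := by omega
  exact_mod_cast h1

theorem UP_normalized (H : CommOK C) (i : Fin D.rank) :
    D.parabolicSubgroup F {i.val} ≤ Subgroup.normalizer (UF C F (zJ C i) 1 : Set (GL D.Idx F)) :=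
  fun _ hg => Subgroup.mem_iInf.1 (parabolic_le_stab C F H {i.val} hg).2 ⟨1, one_pos⟩

theorem X_neg_mem_parabolic (i : Fin D.rank) (t : F) :
    C.X F (C.p i).rev t ∈ D.parabolicSubgroup F {i.val} := by
  have hP : C.P F i ∈ D.parabolicSubgroup F {i.val} :=
    Subgroup.mem_sup_right (Subgroup.subset_closure ⟨i.val, rfl, i.isLt, (C.nMat_one i).symm⟩)
  have h : C.P F i * C.X F (C.p i) (-t) * (C.P F i)⁻¹ = C.X F (C.p i).rev t := by
    rw [C.P_X_conj, C.w_p, C.η_p]; congr 1; push_cast; ring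
  rw [← h]
  exact mul_mem (mul_mem hP (Subgroup.mem_sup_left (X_mem_borel C F (p_pos C i) _))) (inv_mem hP)

theorem US_pos_split (H : CommOK C) (i : Fin D.rank) {u : GL D.Idx F} (hu : u ∈ C.US F C.Pos) :
    ∃ a : F, ∃ w ∈ UF C F (zJ C i) 1, u = C.X F (C.p i) a * w := by
  have hnorm : ∀ a, C.X F (C.p i) a ∈ Subgroup.normalizer (UF C F (zJ C i) 1 : Set (GL D.Idx F)) :=
    fun a => UP_normalized C F H i (Subgroup.mem_sup_left (X_mem_borel C F (p_pos C i) a))
  induction hu using Subgroup.closure_induction'' with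
  | one => exact ⟨0, 1, one_mem _, by rw [C.X_zero, mul_one]⟩
  | mem x hx =>
    obtain ⟨r, hr, t, rfl⟩ := hx
    by_cases h : r = C.p i
    · exact ⟨t, 1, one_mem _, by rw [h, mul_one]⟩
    · exact ⟨0, _, C.X_mem_US F (show r ∈ {s | (1 : ℝ) ≤ val C (zJ C i) s} from pos_split C hr h) t,
        by rw [C.X_zero, one_mul]⟩
  | inv_mem x hx =>
    obtain ⟨r, hr, t, rfl⟩ := hx
    rw [C.X_inv]
    by_cases h : r = C.p i
    · exact ⟨-t, 1, one_mem _, by rw [h, mul_one]⟩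
    · exact ⟨0, _, C.X_mem_US F (show r ∈ {s | (1 : ℝ) ≤ val C (zJ C i) s} from pos_split C hr h) (-t),
        by rw [C.X_zero, one_mul]⟩
  | mul x y _ _ hx hy =>
    obtain ⟨a, w, hw, rfl⟩ := hx
    obtain ⟨b, v, hv, rfl⟩ := hy
    refine ⟨a + b, (C.X F (C.p i) b)⁻¹ * w * C.X F (C.p i) b * v,
      mul_mem ((Subgroup.mem_normalizer_iff''.1 (hnorm b) w).1 hw) hv, ?_⟩
    rw [← C.X_add]; group

/-- The elements X_{-p}(t) b and n b. -/
def InQ (C : Core D) (F : Type*) [Field F] (i : Fin D.rank) (g : GL D.Idx F) : Prop :=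
  (∃ t : F, ∃ b ∈ D.borelSubgroup F, g = C.X F (C.p i).rev t * b) ∨
    ∃ b ∈ D.borelSubgroup F, g = C.P F i * b

theorem inQ_P_X (i : Fin D.rank) (c : F) {b : GL D.Idx F} (hb : b ∈ D.borelSubgroup F) :
    InQ C F i (C.P F i * C.X F (C.p i).rev c * b) := by
  by_cases hc : c = 0
  · exact Or.inr ⟨b, hb, by rw [hc, C.X_zero, mul_one]⟩
  set S : Fˣ := Units.mk0 c hc
  have hX : C.X F (C.p i).rev c = _ := X_neg_eq C F i S
  refine Or.inl ⟨-((S⁻¹ : Fˣ) : F),
    (C.P F i * Core.hD F (C.p i) (-S⁻¹) * C.P F i) * C.X F (C.p i) ((S⁻¹ : Fˣ) : F) * b,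
    mul_mem (mul_mem ?_ (X_mem_borel C F (p_pos C i) _)) hb, ?_⟩
  · refine diag_le_borel C F ?_
    have e : C.P F i * Core.hD F (C.p i) (-S⁻¹) * C.P F i =
        (C.P F i * Core.hD F (C.p i) (-S⁻¹) * (C.P F i)⁻¹) * (C.P F i * C.P F i) := by group
    rw [e]
    refine mul_mem (P_conj_diag C F i (hD_mem_diag C F _ _)) ?_
    rw [Core.P, C.nR_mul]; exact hD_mem_diag C F _ _
  · have e : C.P F i * C.X F (C.p i) ((S⁻¹ : Fˣ) : F) =
        C.X F (C.p i).rev (-((S⁻¹ : Fˣ) : F)) * C.P F i := by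
      rw [C.P_X, C.w_p, C.η_p]; congr 2; push_cast; ring
    rw [hX, nR_eq C F, ← mul_assoc, ← mul_assoc, e]
    group

theorem inQ_mul_X (H : CommOK C) (i : Fin D.rank) (a : F) {g : GL D.Idx F} (hg : InQ C F i g) :
    InQ C F i (C.X F (C.p i) a * g) := by
  have main : ∀ (c : F) {b : GL D.Idx F}, b ∈ D.borelSubgroup F → InQ C F i (C.X F (C.p i) c * C.P F i * b) := by
    intro c b hb
    have e : C.X F (C.p i) c * C.P F i = C.P F i * C.X F (C.p i).rev (-c) := by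
      rw [C.P_X, w_p_rev C, C.η_rev, C.η_p]; congr 2; push_cast; ring
    rw [e]
    exact inQ_P_X C F i _ hb
  rcases hg with ⟨t, b, hb, rfl⟩ | ⟨b, hb, rfl⟩
  · by_cases ht : t = 0
    · exact Or.inl ⟨0, C.X F (C.p i) a * b, mul_mem (X_mem_borel C F (p_pos C i) _) hb,
        by rw [ht, C.X_zero, one_mul, one_mul]⟩
    set S : Fˣ := Units.mk0 t ht
    have hX : C.X F (C.p i).rev t = _ := X_neg_eq C F i S
    have e2 : Core.hD F (C.p i) (-S⁻¹) * C.P F i =
        C.P F i * ((C.P F i)⁻¹ * Core.hD F (C.p i) (-S⁻¹) * C.P F i) := by group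
    rw [hX, nR_eq C F, e2, show C.X F (C.p i) a * (C.X F (C.p i) ((S⁻¹ : Fˣ) : F) *
        (C.P F i * ((C.P F i)⁻¹ * Core.hD F (C.p i) (-S⁻¹) * C.P F i)) *
        C.X F (C.p i) ((S⁻¹ : Fˣ) : F) * b) =
        C.X F (C.p i) a * C.X F (C.p i) ((S⁻¹ : Fˣ) : F) * C.P F i *
          (((C.P F i)⁻¹ * Core.hD F (C.p i) (-S⁻¹) * C.P F i) * C.X F (C.p i) ((S⁻¹ : Fˣ) : F) * b) by group,
      C.X_add]
    exact main _ (mul_mem (mul_mem (diag_le_borel C F (P_conj_diag' C F i (hD_mem_diag C F _ _)))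
      (X_mem_borel C F (p_pos C i) _)) hb)
  · rw [← mul_assoc]
    exact main a hb

theorem inQ_mul_borel (H : CommOK C) (i : Fin D.rank) {x g : GL D.Idx F} (hx : x ∈ D.borelSubgroup F)
    (hg : InQ C F i g) : InQ C F i (x * g) := by
  obtain ⟨u, hu, h, hh, rfl⟩ := C.mem_borel_iff.1 hx
  obtain ⟨a, w, hw, rfl⟩ := US_pos_split C F H i hu
  rw [mul_assoc, mul_assoc]
  refine inQ_mul_X C F H i a ?_
  -- the factor h
  have h1 : InQ C F i (h * g) := by
    rcases hg with ⟨t, b, hb, rfl⟩ | ⟨b, hb, rfl⟩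
    · obtain ⟨c, rfl⟩ := C.mem_diagonal_iff.1 hh
      refine Or.inl ⟨(C.chA c (C.p i).rev : F) * t, C.HT F c * b, mul_mem (diag_le_borel C F hh) hb, ?_⟩
      rw [← C.HT_X_conj F c]; group
    · exact Or.inr ⟨(C.P F i)⁻¹ * h * C.P F i * b, mul_mem (diag_le_borel C F (P_conj_diag' C F i hh)) hb,
        by group⟩
  have hwB : ∀ v ∈ UF C F (zJ C i) 1, v ∈ D.borelSubgroup F := fun v hv => by
    rw [C.borel_eq]
    exact Subgroup.mem_sup_left (UF_le_pos C F (outJ_nonneg C _) one_pos hv)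
  rcases h1 with ⟨t, b, hb, e⟩ | ⟨b, hb, e⟩
  · have hn := (Subgroup.mem_normalizer_iff''.1 (UP_normalized C F H i (X_neg_mem_parabolic C F i t)) w).1 hw
    exact Or.inl ⟨t, _, mul_mem (hwB _ hn) hb, by rw [e]; group⟩
  · have hP : C.P F i ∈ D.parabolicSubgroup F {i.val} :=
      Subgroup.mem_sup_right (Subgroup.subset_closure ⟨i.val, rfl, i.isLt, (C.nMat_one i).symm⟩)
    have hn := (Subgroup.mem_normalizer_iff''.1 (UP_normalized C F H i hP) w).1 hw
    exact Or.inr ⟨_, mul_mem (hwB _ hn) hb, by rw [e]; group⟩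

theorem inQ_of_mem (H : CommOK C) (i : Fin D.rank) {g : GL D.Idx F}
    (hg : g ∈ D.parabolicSubgroup F {i.val}) : InQ C F i g := by
  have hgen : D.parabolicSubgroup F {i.val} =
      Subgroup.closure ((D.borelSubgroup F : Set (GL D.Idx F)) ∪ {C.P F i}) := by
    rw [Subgroup.closure_union, Subgroup.closure_eq, ChevalleyDatum.parabolicSubgroup]
    congr 2
    ext y
    constructor
    · rintro ⟨j, rfl, hj, hy⟩
      exact Units.ext (hy.trans (C.nMat_one i))
    · rintro rfl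
      exact ⟨i.val, rfl, i.isLt, (C.nMat_one i).symm⟩
  have hPP : C.P F i * C.P F i ∈ D.borelSubgroup F := by
    rw [Core.P, C.nR_mul]; exact diag_le_borel C F (hD_mem_diag C F _ _)
  have stepP : ∀ y, InQ C F i y → InQ C F i (C.P F i * y) := by
    rintro y (⟨t, b, hb, rfl⟩ | ⟨b, hb, rfl⟩)
    · rw [← mul_assoc]; exact inQ_P_X C F i t hb
    · exact Or.inl ⟨0, C.P F i * C.P F i * b, mul_mem hPP hb, by rw [C.X_zero, one_mul, mul_assoc]⟩
  rw [hgen] at hg
  induction hg using Subgroup.closure_induction_left with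
  | one => exact Or.inl ⟨0, 1, one_mem _, by rw [C.X_zero, one_mul]⟩
  | mul_left x hx y _ hy =>
    rcases hx with hx | hx
    · exact inQ_mul_borel C F H i hx hy
    · rw [Set.mem_singleton_iff.1 hx]; exact stepP y hy
  | inv_mul_cancel x hx y _ hy =>
    rcases hx with hx | hx
    · exact inQ_mul_borel C F H i (inv_mem hx) hy
    · rw [Set.mem_singleton_iff.1 hx,
        show (C.P F i)⁻¹ * y = C.P F i * ((C.P F i * C.P F i)⁻¹ * y) by group]
      exact stepP _ (inQ_mul_borel C F H i (inv_mem hPP) hy)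

theorem parabolic_inf_neg (H : CommOK C) (i : Fin D.rank) {g : GL D.Idx F}
    (hg : g ∈ D.parabolicSubgroup F {i.val}) (hgN : g ∈ C.US F C.Neg) :
    ∃ t : F, g = C.X F (C.p i).rev t := by
  rcases inQ_of_mem C F H i hg with ⟨t, b, hb, rfl⟩ | ⟨b, hb, rfl⟩
  · refine ⟨t, ?_⟩
    have : b = 1 := by
      rw [← Subgroup.mem_bot, ← C.borel_inf_negUS]
      refine ⟨hb, ?_⟩
      have := mul_mem (inv_mem (C.X_mem_US F (p_neg_mem C i) t)) hgN
      rwa [inv_mul_cancel_left] at this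
    rw [this, mul_one]
  · exfalso
    have hdiag : ((C.P F i * b : GL D.Idx F) : Matrix D.Idx D.Idx F) (Sum.inr (C.p i)) (Sum.inr (C.p i)) = 1 := by
      by_contra hne
      have := (C.negUS_le_upperU hgN).1 (Sum.inr (C.p i)) (Sum.inr (C.p i)) (by simpa [sub_eq_zero] using hne)
      omega
    apply one_ne_zero (α := F)
    rw [← hdiag, Units.val_mul, Matrix.mul_apply]
    refine Finset.sum_eq_zero fun a _ => ?_
    by_contra hne
    have h1 := left_ne_zero_of_mul hne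
    rw [C.P_val, Matrix.map_apply] at h1
    rcases a with a | a
    · simp [Pm] at h1
    · simp only [Pm, Matrix.of_apply] at h1
      split_ifs at h1 with hw
      · have ha : a = (C.p i).rev := by
          have := congrArg (C.w i) hw
          rw [C.w_w, C.w_p] at this
          exact this.symm
        subst ha
        have := C.borel_entry hb (a := Sum.inr (C.p i).rev) (b := Sum.inr (C.p i))
          (fun h => C.ne_rev _ (Sum.inr.inj h)) (right_ne_zero_of_mul hne)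
        rw [C.fht_inr, C.fht_inr, C.ht_rev] at this
        have := C.ht_pos (p_pos C i)
        omega
      · simp at h1

theorem borel_lt_parabolic (i : Fin D.rank) : C.P F i ∉ D.borelSubgroup F := by
  intro h
  refine P_not_mem_normalizer C F i (subset_refl C.Pos) (p_pos C i) ?_
  have hle : D.borelSubgroup F ≤ Subgroup.normalizer (C.US F C.Pos : Set (GL D.Idx F)) := by
    rw [C.borel_eq]; exact sup_le Subgroup.le_normalizer (C.diag_le_normalizer _)
  exact hle h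

theorem P_mem_parabolic_iff (H : CommOK C) {i k : Fin D.rank}
    (h : C.P F k ∈ D.parabolicSubgroup F {i.val}) : k = i := by
  by_contra hne
  have hpos : 0 < zJ C i k := by rw [zJ_other C hne]; exact one_pos
  exact P_not_mem_normalizer C F k (S := {r | zJ C i k ≤ val C (zJ C i) r})
    (fun r hr => pos_of_val_pos C (outJ_nonneg C _) (lt_of_lt_of_le hpos hr))
    (show zJ C i k ≤ val C (zJ C i) (C.p k) by rw [val_p])
    (Subgroup.mem_iInf.1 (parabolic_le_stab C F H {i.val} h).2 ⟨_, hpos⟩)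

end Cfsg.Agent.Lib.ChevAut
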