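import Cfsg.Agent.Lib.ChevAut.Permute
import Cfsg.Agent.Lib.ChevAut.Diagonal

/-!
The maps induced on the root parameters by an automorphism permuting the fundamental root subgroups.
-/

set_option autoImplicit false
set_option linter.unusedSectionVars false

namespace Cfsg.Agent.Lib.ChevAut

open Cfsg.Lie Cfsg.Agent.Lib.ChevStructure Cfsg.Agent.Lib.ChevBorelTits
open scoped MatrixGroups Matrix

variable {D : ChevalleyDatum} (C : Core D) {F : Type*} [Field F] [Fintype F]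

/-- θ acts on the fundamental root elements through π, f, g. -/
def Perms (θ : ↥(D.group F) ≃* ↥(D.group F)) (π : Equiv.Perm (Fin D.rank)) (f g : Fin D.rank → F → F) :
    Prop :=
  ∀ i t, θ ⟨C.X F (C.p i) t, C.X_mem_group _ _⟩ = ⟨C.X F (C.p (π i)) (f i t), C.X_mem_group _ _⟩ ∧
    θ ⟨C.X F (C.p i).rev t, C.X_mem_group _ _⟩ = ⟨C.X F (C.p (π i)).rev (g i t), C.X_mem_group _ _⟩

variable {θ : ↥(D.group F) ≃* ↥(D.group F)} {π : Equiv.Perm (Fin D.rank)} {f g : Fin D.rank → F → F}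
variable (hP : Perms C θ π f g)
include hP

theorem f_zero (i : Fin D.rank) : f i 0 = 0 := by
  have h := (hP i 0).1
  have e : (⟨C.X F (C.p i) 0, C.X_mem_group _ _⟩ : ↥(D.group F)) = 1 := Subtype.ext (C.X_zero F _)
  rw [e, map_one] at h
  exact C.X_eq_one (congrArg Subtype.val h).symm

theorem g_zero (i : Fin D.rank) : g i 0 = 0 := by
  have h := (hP i 0).2
  have e : (⟨C.X F (C.p i).rev 0, C.X_mem_group _ _⟩ : ↥(D.group F)) = 1 := Subtype.ext (C.X_zero F _)
  rw [e, map_one] at h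
  exact C.X_eq_one (congrArg Subtype.val h).symm

theorem f_add (i : Fin D.rank) (t u : F) : f i (t + u) = f i t + f i u := by
  have e : (⟨C.X F (C.p i) (t + u), C.X_mem_group _ _⟩ : ↥(D.group F)) =
      ⟨C.X F (C.p i) t, C.X_mem_group _ _⟩ * ⟨C.X F (C.p i) u, C.X_mem_group _ _⟩ :=
    Subtype.ext (C.X_add F _ t u).symm
  have h := (hP i (t + u)).1
  rw [e, map_mul, (hP i t).1, (hP i u).1] at h
  have h2 := congrArg Subtype.val h
  rw [Subgroup.coe_mul] at h2
  rw [C.X_add] at h2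
  exact (X_inj C h2).symm

theorem f_injective (i : Fin D.rank) : Function.Injective (f i) := by
  intro t u h
  have h1 : θ ⟨C.X F (C.p i) t, C.X_mem_group _ _⟩ = θ ⟨C.X F (C.p i) u, C.X_mem_group _ _⟩ := by
    rw [(hP i t).1, (hP i u).1]; simp [h]
  exact X_inj C (congrArg Subtype.val (θ.injective h1))

theorem f_ne (i : Fin D.rank) {t : F} (ht : t ≠ 0) : f i t ≠ 0 := fun h =>
  ht (f_injective C hP i (h.trans (f_zero C hP i).symm))

theorem g_ne (i : Fin D.rank) {t : F} (ht : t ≠ 0) : g i t ≠ 0 := by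
  intro h
  have h1 : θ ⟨C.X F (C.p i).rev t, C.X_mem_group _ _⟩ = θ ⟨C.X F (C.p i).rev 0, C.X_mem_group _ _⟩ := by
    rw [(hP i t).2, (hP i 0).2]; simp [h, g_zero C hP i]
  exact ht (X_inj C (congrArg Subtype.val (θ.injective h1)))

/-- The rank-one relation between the two parameter maps. -/
theorem g_eq (i : Fin D.rank) {t : F} (ht : t ≠ 0) : g i (-t⁻¹) = -(f i t)⁻¹ := by
  set u : Fˣ := Units.mk0 t ht
  set a := f i t
  set b := g i (-t⁻¹)
  have hb : b ≠ 0 := g_ne C hP i (by simpa using ht)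
  set B : Fˣ := Units.mk0 b hb
  set k := π i
  set M : GL D.Idx F := C.X F (C.p k) a * C.X F (C.p k).rev b * C.X F (C.p k) a
  set xi : ↥(D.group F) := ⟨C.nR F (C.p i) u, C.nR_mem_group _ _⟩
  have hxi : (θ xi : GL D.Idx F) = M := by
    have e : xi = ⟨C.X F (C.p i) t, C.X_mem_group _ _⟩ * ⟨C.X F (C.p i).rev (-t⁻¹), C.X_mem_group _ _⟩ *
        ⟨C.X F (C.p i) t, C.X_mem_group _ _⟩ := Subtype.ext (by simp [xi, Core.nR, u])
    rw [e, map_mul, map_mul, (hP i t).1, (hP i _).2]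
    rfl
  have e1 : xi * ⟨C.X F (C.p i) 1, C.X_mem_group _ _⟩ * xi⁻¹ =
      ⟨C.X F (C.p i).rev (-(((u : F)⁻¹) ^ 2 * 1)), C.X_mem_group _ _⟩ :=
    Subtype.ext (nR_conj_X C F i u 1)
  have h := congrArg (fun y => (θ y : GL D.Idx F)) e1
  simp only [map_mul, map_inv, (hP i _).1, (hP i _).2, Subgroup.coe_mul, Subgroup.coe_inv, hxi] at h
  set c := f i 1
  set x := a + b⁻¹
  have hM : M * C.X F (C.p k) c * M⁻¹ =
      C.X F (C.p k) x * C.X F (C.p k).rev (-((((-B⁻¹ : Fˣ) : F))⁻¹ ^ 2 * c)) * (C.X F (C.p k) x)⁻¹ := by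
    have hX : C.X F (C.p k).rev b = _ := X_neg_eq C F k B
    have hBv : ((B⁻¹ : Fˣ) : F) = b⁻¹ := Units.val_inv_eq_inv_val B
    have hM2 : M = C.X F (C.p k) x * C.nR F (C.p k) (-B⁻¹) * C.X F (C.p k) x := by
      show C.X F (C.p k) a * C.X F (C.p k).rev b * C.X F (C.p k) a = _
      rw [hX, hBv, show x = a + b⁻¹ from rfl]
      rw [show C.X F (C.p k) a * (C.X F (C.p k) b⁻¹ * C.nR F (C.p k) (-B⁻¹) * C.X F (C.p k) b⁻¹) *
          C.X F (C.p k) a = (C.X F (C.p k) a * C.X F (C.p k) b⁻¹) * C.nR F (C.p k) (-B⁻¹) *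
          (C.X F (C.p k) b⁻¹ * C.X F (C.p k) a) by group, C.X_add, C.X_add, add_comm b⁻¹ a]
    have hc : C.X F (C.p k) x * C.X F (C.p k) c * (C.X F (C.p k) x)⁻¹ = C.X F (C.p k) c := by
      rw [C.X_add, C.X_inv, C.X_add]; congr 1; ring
    rw [hM2, ← nR_conj_X C F k (-B⁻¹) c]
    calc _ = C.X F (C.p k) x * C.nR F (C.p k) (-B⁻¹) *
          (C.X F (C.p k) x * C.X F (C.p k) c * (C.X F (C.p k) x)⁻¹) * (C.nR F (C.p k) (-B⁻¹))⁻¹ *
          (C.X F (C.p k) x)⁻¹ := by group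
      _ = _ := by rw [hc]; group
  rw [hM] at h
  have hx : x = 0 := conj_rigid C F k
    (by simp [f_ne C hP i one_ne_zero, c, Units.ne_zero]) h
  have hab : a = -b⁻¹ := eq_neg_of_add_eq_zero_left hx
  show b = -a⁻¹
  rw [hab, inv_neg, inv_inv, neg_neg]

variable (h1 : ∀ i, f i 1 = 1)
include h1

theorem f_neg (i : Fin D.rank) (t : F) : f i (-t) = -f i t := by
  have h := f_add C hP i t (-t)
  rw [add_neg_cancel, f_zero C hP i] at h
  exact eq_neg_of_add_eq_zero_right h.symm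

theorem map_nR (i : Fin D.rank) (u : Fˣ) :
    (θ ⟨C.nR F (C.p i) u, C.nR_mem_group _ _⟩ : GL D.Idx F) =
      C.nR F (C.p (π i)) (Units.mk0 (f i u) (f_ne C hP i u.ne_zero)) := by
  have e : (⟨C.nR F (C.p i) u, C.nR_mem_group _ _⟩ : ↥(D.group F)) =
      ⟨C.X F (C.p i) u, C.X_mem_group _ _⟩ * ⟨C.X F (C.p i).rev (-(u : F)⁻¹), C.X_mem_group _ _⟩ *
        ⟨C.X F (C.p i) u, C.X_mem_group _ _⟩ := Subtype.ext (by simp [Core.nR])
  rw [e, map_mul, map_mul, (hP i u).1, (hP i _).2]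
  simp only [Subgroup.coe_mul, g_eq C hP i u.ne_zero]
  simp [Core.nR]

theorem map_P (i : Fin D.rank) :
    (θ ⟨C.P F i, C.P_mem_group i⟩ : GL D.Idx F) = C.P F (π i) := by
  have := map_nR C hP h1 i 1
  rw [show Units.mk0 (f i (1 : Fˣ)) (f_ne C hP i (Units.ne_zero 1)) = 1 from Units.ext (by simp [h1])] at this
  exact this

/-- θ preserves the orthogonality of fundamental roots. -/
theorem adjPerm : AdjPerm D π := by
  have hcart : ∀ a b, cart D a b = A D a (C.p b) := fun a b => by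
    rw [cart, C.simple_eq]; rfl
  have hfix : ∀ a b : Fin D.rank, A D a (C.p b) = 0 ↔ C.w a (C.p b) = C.p b := by
    intro a b
    constructor
    · intro h; exact C.v_inj (by rw [C.v_w, h, zero_smul, sub_zero])
    · intro h
      have hv := congrFun (C.v_w a (C.p b)) a
      rw [h] at hv
      simp only [Pi.sub_apply, Pi.smul_apply, Pi.single_eq_same, smul_eq_mul, mul_one] at hv
      omega
  intro i j hij
  rw [hcart, hcart, hfix, hfix]
  set y : ↥(D.group F) := ⟨C.P F i, C.P_mem_group i⟩ * ⟨C.X F (C.p j) 1, C.X_mem_group _ _⟩ *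
    (⟨C.P F i, C.P_mem_group i⟩ : ↥(D.group F))⁻¹
  have hy : (y : GL D.Idx F) = C.X F (C.w i (C.p j)) (C.η i (C.p j) : F) := by
    show C.P F i * C.X F (C.p j) 1 * (C.P F i)⁻¹ = _
    rw [C.P_X_conj, mul_one]
  have hy' : (θ y : GL D.Idx F) = C.X F (C.w (π i) (C.p (π j))) (C.η (π i) (C.p (π j)) : F) := by
    simp only [y, map_mul, map_inv, Subgroup.coe_mul, Subgroup.coe_inv, map_P C hP h1]
    rw [(hP j 1).1]
    simp only [h1]
    show C.P F (π i) * C.X F (C.p (π j)) 1 * (C.P F (π i))⁻¹ = _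
    rw [C.P_X_conj, mul_one]
  have hη : ∀ a b, ((C.η a b : ℤ) : F) ≠ 0 := fun a b => (C.ηU F a b).ne_zero
  constructor
  · intro h
    rw [h] at hy
    have e : θ y = ⟨C.X F (C.p (π j)) (f j (C.η i (C.p j) : F)), C.X_mem_group _ _⟩ := by
      rw [show y = ⟨C.X F (C.p j) (C.η i (C.p j) : F), C.X_mem_group _ _⟩ from Subtype.ext hy]
      exact (hP j _).1
    rw [e] at hy'
    exact (X_inj_root C hy' (f_ne C hP j (hη _ _))).symm
  · intro h
    rw [h] at hy'
    have hb : Function.Bijective (f j) := Finite.injective_iff_bijective.1 (f_injective C hP j)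
    obtain ⟨t, ht⟩ := hb.2 (C.η (π i) (C.p (π j)) : F)
    have e : θ y = θ ⟨C.X F (C.p j) t, C.X_mem_group _ _⟩ := by
      rw [(hP j t).1]; simp only [ht]; exact Subtype.ext hy'
    have e2 := congrArg Subtype.val (θ.injective e)
    rw [hy] at e2
    exact X_inj_root C e2 (hη _ _)

/-- The torus relation. -/
theorem f_torus (i j : Fin D.rank) (t : Fˣ) (u : F) :
    f j (((t ^ A D i (C.p j) : Fˣ) : F) * u) =
      (((Units.mk0 (f i t) (f_ne C hP i t.ne_zero)) ^ A D (π i) (C.p (π j)) : Fˣ) : F) * f j u := by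
  set s : Fˣ := Units.mk0 (f i t) (f_ne C hP i t.ne_zero)
  set m1 : ↥(D.group F) := ⟨C.nR F (C.p i) (-1), C.nR_mem_group _ _⟩
  set h : ↥(D.group F) := ⟨C.nR F (C.p i) t, C.nR_mem_group _ _⟩ * m1
  have hh : (h : GL D.Idx F) = Core.hD F (C.p i) t := C.hR_eq F (C.p i) t
  have hh' : (θ h : GL D.Idx F) = Core.hD F (C.p (π i)) s := by
    simp only [h, m1, map_mul, Subgroup.coe_mul, map_nR C hP h1]
    rw [← C.hR_eq F (C.p (π i)) s]
    congr 2
    exact Units.ext (by simp [f_neg C hP h1, h1])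
  have e : h * ⟨C.X F (C.p j) u, C.X_mem_group _ _⟩ * h⁻¹ =
      ⟨C.X F (C.p j) (((t ^ A D i (C.p j) : Fˣ) : F) * u), C.X_mem_group _ _⟩ := by
    apply Subtype.ext
    simp only [Subgroup.coe_mul, Subgroup.coe_inv, hh]
    rw [hD_X_conj C F, C.pr_p]
  have e2 := congrArg (fun y => (θ y : GL D.Idx F)) e
  simp only [map_mul, map_inv, Subgroup.coe_mul, Subgroup.coe_inv, hh', (hP j _).1] at e2
  rw [hD_X_conj C F, C.pr_p] at e2
  exact (X_inj C e2).symm

theorem f_sq_mul (i : Fin D.rank) (t u : F) : f i (t ^ 2 * u) = f i t ^ 2 * f i u := by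
  by_cases ht : t = 0
  · subst ht; simp [f_zero C hP i]
  have h := f_torus C hP h1 i i (Units.mk0 t ht) u
  simpa [C.A_p] using h

theorem f_mul (i : Fin D.rank) (t u : F) : f i (t * u) = f i t * f i u := by
  have hsq : ∀ t, f i (t ^ 2) = f i t ^ 2 := fun t => by simpa [h1] using f_sq_mul C hP h1 i t 1
  by_cases h2 : (2 : F) = 0
  · haveI : CharP F 2 := CharTwo.of_one_ne_zero_of_two_eq_zero one_ne_zero h2
    have hinj : Function.Injective (fun x : F => x ^ 2) := CharTwo.sq_injective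
    obtain ⟨r, hr⟩ := (Finite.injective_iff_surjective.1 hinj) t
    simp only at hr
    rw [← hr, f_sq_mul C hP h1, hsq]
  · have e := f_sq_mul C hP h1 i (t + 1) u
    rw [show (t + 1) ^ 2 * u = t ^ 2 * u + (t * u + t * u) + u by ring, f_add C hP, f_add C hP,
      f_add C hP, f_sq_mul C hP h1, f_add C hP i t 1, h1] at e
    have h3 : (2 : F) * (f i (t * u) - f i t * f i u) = 0 := by linear_combination e
    exact sub_eq_zero.1 ((mul_eq_zero.1 h3).resolve_left h2)

/-- The parameter map as a field automorphism. -/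
theorem exists_ringEquiv (i : Fin D.rank) : ∃ σ : F ≃+* F, (∀ t, σ t = f i t) ∧ ∀ t, g i t = σ t := by
  let φ : F →+* F :=
    { toFun := f i
      map_one' := h1 i
      map_mul' := f_mul C hP h1 i
      map_zero' := f_zero C hP i
      map_add' := f_add C hP i }
  have hb : Function.Bijective φ := Finite.injective_iff_bijective.1 (f_injective C hP i)
  refine ⟨RingEquiv.ofBijective φ hb, fun t => rfl, fun t => ?_⟩
  by_cases ht : t = 0
  · subst ht; rw [g_zero C hP i, map_zero]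
  have h := g_eq C hP i (t := -t⁻¹) (by simpa using ht)
  rw [inv_neg, inv_inv, neg_neg] at h
  rw [h]
  show -(φ (-t⁻¹))⁻¹ = φ t
  rw [map_neg, map_inv₀, inv_neg, inv_inv, neg_neg]

end Cfsg.Agent.Lib.ChevAut
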