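import Cfsg.Agent.Lib.ChevAut.Rigid
import Mathlib.FieldTheory.Perfect

/-!
Steinberg's theorem on the automorphisms of a finite Chevalley group.
-/

set_option autoImplicit false
set_option linter.unusedSectionVars false

namespace Cfsg.Agent.Lib.ChevAut

open Cfsg.Lie Cfsg.Agent.Lib.ChevStructure Cfsg.Agent.Lib.ChevBorelTits
open scoped MatrixGroups Matrix

variable {D : ChevalleyDatum} (C : Core D) {F : Type*} [Field F] [Fintype F]
include C

theorem cart_eq (a b : Fin D.rank) : cart D a b = A D a (C.p b) := by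
  rw [cart, C.simple_eq]; rfl

theorem graphExp_eq (π : Equiv.Perm (Fin D.rank)) (c : ℕ) (i : Fin D.rank) :
    D.graphExp c i (π i) = if stol D π i then c else 1 := rfl

omit C in
/-- In characteristic c, an additive power map x ↦ x^m with m ∈ {2, 3} is x ↦ x^c. -/
theorem pow_eq_pow_ringChar {m : ℕ} (hm : m = 2 ∨ m = 3)
    (hadd : ∀ x y : F, (x + y) ^ m = x ^ m + y ^ m) (x : F) : x ^ m = x ^ ringChar F := by
  have hp : (ringChar F).Prime := CharP.char_is_prime F (ringChar F)
  have h11 := hadd 1 1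
  rcases hm with rfl | rfl
  · have h2 : ((2 : ℕ) : F) = 0 := by push_cast; linear_combination h11
    rw [(Nat.prime_dvd_prime_iff_eq hp Nat.prime_two).1 ((ringChar.spec F 2).1 h2)]
  · have h6 : ((2 * 3 : ℕ) : F) = 0 := by push_cast; linear_combination h11
    rcases hp.dvd_mul.1 ((ringChar.spec F _).1 h6) with h | h
    · have h2 : (2 : F) = 0 := by exact_mod_cast (ringChar.spec F 2).2 h
      have hx := hadd x 1
      have hz : x * (x + 1) = 0 := by
        linear_combination hx - (x ^ 2 + x) * h2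
      rw [(Nat.prime_dvd_prime_iff_eq hp Nat.prime_two).1 h]
      rcases mul_eq_zero.1 hz with h0 | h0
      · simp [h0]
      · have h1 : x = 1 := by linear_combination h0 - h2
        simp [h1]
    · rw [(Nat.prime_dvd_prime_iff_eq hp Nat.prime_three).1 h]

/-- The parameter maps of a normalised automorphism are powers of one field automorphism. -/
theorem exists_field (hT : DiagramTable D) {θ : ↥(D.group F) ≃* ↥(D.group F)}
    {π : Equiv.Perm (Fin D.rank)} {f g : Fin D.rank → F → F}
    (hP : Perms C θ π f g) (h1 : ∀ i, f i 1 = 1) :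
    D.IsDiagramSymmetry π ∧
      ∃ σ : F ≃+* F, ∀ i t, f i t = σ t ^ D.graphExp (ringChar F) i (π i) ∧
        g i t = σ t ^ D.graphExp (ringChar F) i (π i) := by
  classical
  obtain ⟨hT1, hT2, hT3, hT4⟩ := hT
  obtain ⟨hpair, i0, hi0⟩ := hT1 π (adjPerm C hP h1)
  refine ⟨fun i j hij => (hpair i j hij).1, ?_⟩
  choose τ hτf hτg using fun i => exists_ringEquiv C hP h1 i
  set Q : Fin D.rank → Prop := fun i => ∀ t, f i t = τ i0 t ^ D.graphExp (ringChar F) i (π i)
  haveI : Fact (ringChar F).Prime := ⟨CharP.char_is_prime F (ringChar F)⟩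
  have step : ∀ i j, i ≠ j → cart D i j = -1 → (Q i ↔ Q j) := by
    intro i j hij ha
    have htor : ∀ t : Fˣ, (f j (t : F))⁻¹ =
        (((Units.mk0 (f i t) (f_ne C hP i t.ne_zero)) ^ cart D (π i) (π j) : Fˣ) : F) := by
      intro t
      have h := f_torus C hP h1 i j t 1
      rw [← cart_eq C, ← cart_eq C, ha, zpow_neg_one, mul_one, h1, mul_one, Units.val_inv_eq_inv_val,
        ← hτf, map_inv₀, hτf] at h
      exact h
    have hrel : ∀ m : ℕ, cart D (π i) (π j) = -(m : ℤ) → 1 ≤ m → ∀ t, f j t = f i t ^ m := by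
      intro m hm hm1 t
      by_cases ht : t = 0
      · subst ht
        rw [f_zero C hP j, f_zero C hP i, zero_pow (by omega)]
      have h := htor (Units.mk0 t ht)
      rw [hm, zpow_neg, zpow_natCast, Units.val_inv_eq_inv_val, Units.val_pow_eq_pow_val, inv_inj] at h
      simpa using h
    rcases (hpair i j hij).2 ha with ⟨hb, hs⟩ | ⟨hb, hsi, hsj⟩
    · have he : ∀ t, f j t = f i t := fun t => by simpa using hrel 1 (by simpa using hb) le_rfl t
      simp only [Q, graphExp_eq C, hs, he]
    · obtain ⟨m, hm, hbm⟩ : ∃ m : ℕ, (m = 2 ∨ m = 3) ∧ cart D (π i) (π j) = -(m : ℤ) := by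
        rcases hb with h | h
        · exact ⟨2, Or.inl rfl, by simpa using h⟩
        · exact ⟨3, Or.inr rfl, by simpa using h⟩
      have he := hrel m hbm (by omega)
      have hadd : ∀ x y : F, (x + y) ^ m = x ^ m + y ^ m := by
        intro x y
        obtain ⟨a, rfl⟩ := (Finite.injective_iff_surjective.1 (f_injective C hP i)) x
        obtain ⟨b, rfl⟩ := (Finite.injective_iff_surjective.1 (f_injective C hP i)) y
        rw [← f_add C hP i, ← he, ← he, ← he, f_add C hP j]
      have hpow := pow_eq_pow_ringChar (F := F) hm hadd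
      have he' : ∀ t, f j t = f i t ^ ringChar F := fun t => by rw [he, hpow]
      simp only [Q, graphExp_eq C, hsi, hsj, Bool.false_eq_true, if_false, if_true, pow_one, he']
      constructor
      · intro hq t; rw [hq]
      · intro hq t
        exact frobenius_inj F (ringChar F) (by simp only [frobenius_def]; exact hq t)
  set T : Finset (Fin D.rank) := Finset.univ.filter Q
  have hQ0 : Q i0 := fun t => by rw [graphExp_eq C, hi0]; simp [hτf]
  have hall : ∀ i, Q i := by
    intro i
    have := hT4 T ⟨i0, by simp [T, hQ0]⟩ (fun a ha b hba hne => ?_) i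
    · simpa [T] using this
    · simp only [T, Finset.mem_filter, Finset.mem_univ, true_and] at ha ⊢
      rcases hT2 a b hba.symm hne with h | h
      · exact (step a b hba.symm h).1 ha
      · exact (step b a hba h).2 ha
  refine ⟨τ i0, fun i t => ⟨hall i t, ?_⟩⟩
  rw [hτg, hτf]
  exact hall i t

theorem chr_p (χ : Fin D.rank → Fˣ) (k : Fin D.rank) : C.chr F χ (C.p k) = χ k := by
  simp only [Core.chr, C.v_p]
  rw [Finset.prod_eq_single k (fun j _ hj => by simp [hj]) (by simp)]
  simp

/-- Steinberg: every automorphism is inner · diagonal · graph · field. -/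
theorem steinberg (H : CommOK C) (hT : DiagramTable D) (hh : headsOK D = true)
    (θ : ↥(D.group F) ≃* ↥(D.group F)) :
    ∃ (x : ↥(D.group F)) (d g f : ↥(D.group F) ≃* ↥(D.group F)),
      D.IsDiagonalAut d ∧ D.IsGraphAut g ∧ D.IsFieldAut f ∧
        ∀ y : ↥(D.group F), θ y = x * d (g (f y)) * x⁻¹ := by
  obtain ⟨x, hU, hN⟩ := exists_fix_both C H θ
  set φ := θ.trans (innG x) with hφ
  obtain ⟨π, f, g, hfg⟩ := exists_perm C H hU hN
  have hP : Perms C φ π f g := hfg
  set χ : Fin D.rank → Fˣ := fun k => Units.mk0 (f (π.symm k) 1) (f_ne C hP _ one_ne_zero) with hχ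
  set d := diagAut C χ (F := F) with hd
  set ψ := φ.trans d.symm with hψ
  have hsymm : ∀ r t, d.symm ⟨C.X F r t, C.X_mem_group _ _⟩ =
      ⟨C.X F r (((C.chr F χ r)⁻¹ : Fˣ) * t), C.X_mem_group _ _⟩ := by
    intro r t
    rw [MulEquiv.symm_apply_eq, hd, diagAut_GX C, ← mul_assoc, ← Units.val_mul, mul_inv_cancel, Units.val_one,
      one_mul]
  set f' : Fin D.rank → F → F := fun i t => (((χ (π i))⁻¹ : Fˣ) : F) * f i t with hf'
  set g' : Fin D.rank → F → F := fun i t => (χ (π i) : F) * g i t with hg'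
  have hP' : Perms C ψ π f' g' := by
    intro i t
    constructor
    · rw [hψ, MulEquiv.trans_apply, (hP i t).1, hsymm]
      simp only [chr_p C, hf']
    · rw [hψ, MulEquiv.trans_apply, (hP i t).2, hsymm]
      simp only [C.chr_rev, chr_p C, inv_inv, hg']
  have h1 : ∀ i, f' i 1 = 1 := by
    intro i
    simp [hf', hχ, f_ne C hP i one_ne_zero]
  obtain ⟨hπ, σ, hσ⟩ := exists_field C hT hP' h1
  set φF := fieldAut C σ (F := F)
  set G := φF.symm.trans ψ with hG
  refine ⟨x⁻¹, d, G, φF, isDiagonalAut_diagAut C hh χ, ?_, isFieldAut_fieldAut C σ, fun y => ?_⟩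
  · have hFs : ∀ r t, φF.symm ⟨C.X F r t, C.X_mem_group _ _⟩ = ⟨C.X F r (σ.symm t), C.X_mem_group _ _⟩ := by
      intro r t
      rw [MulEquiv.symm_apply_eq, fieldAut_GX C]
      simp
    refine ⟨π, hπ, fun y i t => ⟨fun hy => ?_, fun hy => ?_⟩⟩
    · rw [C.simple_eq] at hy ⊢
      have e : y = ⟨C.X F (C.p i) t, C.X_mem_group _ _⟩ := Subtype.ext (C.eq_X hy)
      subst e
      rw [hG, MulEquiv.trans_apply, hFs, (hP' i _).1]
      simp only [(hσ i _).1, RingEquiv.apply_symm_apply]
      exact C.X_val_x _ _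
    · rw [C.simple_eq, C.neg_val] at hy ⊢
      have e : y = ⟨C.X F (C.p i).rev t, C.X_mem_group _ _⟩ := Subtype.ext (C.eq_X hy)
      subst e
      rw [hG, MulEquiv.trans_apply, hFs, (hP' i _).2]
      simp only [(hσ i _).2, RingEquiv.apply_symm_apply]
      exact C.X_val_x _ _
  · simp [hG, hψ, hφ, innG, mul_assoc]

end Cfsg.Agent.Lib.ChevAut
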