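import Cfsg.Prelude.Def_ChevAutomorphisms
import Cfsg.Prelude.Def_LieTypes
import Cfsg.Prelude.Def_ChevB2
import Mathlib.Data.Fintype.Perm
import Mathlib.Data.Fintype.Powerset
import Mathlib.Data.Fintype.Pi

/-!
Table facts about Dynkin diagrams, their permutations and root lengths.
-/

set_option autoImplicit false
set_option maxRecDepth 100000
set_option synthInstance.maxSize 2000
set_option synthInstance.maxHeartbeats 200000

namespace Cfsg.Agent.Lib.ChevAut

open Cfsg.Lie

variable (D : ChevalleyDatum)

/-- The Cartan integer of two nodes. -/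
def cart (i j : Fin D.rank) : ℤ := D.cartan i.val (D.simple j.val)

/-- The node goes from short to long. -/
def stol (π : Equiv.Perm (Fin D.rank)) (i : Fin D.rank) : Bool :=
  D.isLong (D.simple (π i).val) && !D.isLong (D.simple i.val)

/-- What a permutation preserving adjacency does on an ordered pair of nodes. -/
def PairOK (π : Equiv.Perm (Fin D.rank)) (i j : Fin D.rank) : Prop :=
  cart D (π i) (π j) * cart D (π j) (π i) = cart D i j * cart D j i ∧
    (cart D i j = -1 →
      (cart D (π i) (π j) = -1 ∧ stol D π i = stol D π j) ∨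
        ((cart D (π i) (π j) = -2 ∨ cart D (π i) (π j) = -3) ∧ stol D π i = false ∧ stol D π j = true))

instance (π : Equiv.Perm (Fin D.rank)) (i j : Fin D.rank) : Decidable (PairOK D π i j) := by
  unfold PairOK; infer_instance

/-- A permutation preserving adjacency. -/
def AdjPerm (π : Equiv.Perm (Fin D.rank)) : Prop :=
  ∀ i j : Fin D.rank, i ≠ j → (cart D i j = 0 ↔ cart D (π i) (π j) = 0)

/-- The facts used in the classification of automorphisms. -/
def DiagramTable : Prop :=
  (∀ π : Equiv.Perm (Fin D.rank), AdjPerm D π →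
      (∀ i j, i ≠ j → PairOK D π i j) ∧ ∃ i, stol D π i = false) ∧
    (∀ i j : Fin D.rank, i ≠ j → cart D i j ≠ 0 → cart D i j = -1 ∨ cart D j i = -1) ∧
    (∀ i j : Fin D.rank, i ≠ j → cart D i j ≠ 0 → cart D j i ≠ 0) ∧
    (∀ T : Finset (Fin D.rank), T.Nonempty →
      (∀ i ∈ T, ∀ j, j ≠ i → cart D i j ≠ 0 → j ∈ T) → ∀ j, j ∈ T)

/-- Simply laced data: no bonds are multiple and no fundamental root counts as long. -/
def SimplyLaced : Prop :=
  (∀ i j : Fin D.rank, i ≠ j → cart D i j = 0 ∨ cart D i j = -1) ∧
    (∀ i : Fin D.rank, D.isLong (D.simple i.val) = false) ∧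
    (∀ i j : Fin D.rank, cart D i j = cart D j i) ∧
    0 < D.rank ∧
    (∀ T : Finset (Fin D.rank), T.Nonempty →
      (∀ i ∈ T, ∀ j, j ≠ i → cart D i j ≠ 0 → j ∈ T) → ∀ j, j ∈ T)

theorem table_of_simplyLaced {D : ChevalleyDatum} (h : SimplyLaced D) : DiagramTable D := by
  obtain ⟨h1, h2, h3, h4, h5⟩ := h
  refine ⟨fun π hπ => ⟨fun i j hij => ?_, ⟨⟨0, h4⟩, by simp [stol, h2]⟩⟩, fun i j hij hne => ?_, ?_, h5⟩
  · have hij' : π i ≠ π j := fun e => hij (π.injective e)
    have e1 : cart D (π i) (π j) = cart D i j := by
      have := hπ i j hij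
      rcases h1 i j hij with a | a <;> rcases h1 (π i) (π j) hij' with b | b <;> omega
    have e2 : cart D (π j) (π i) = cart D j i := by rw [h3, e1, h3]
    exact ⟨by rw [e1, e2], fun ha => Or.inl ⟨e1.trans ha, by simp [stol, h2]⟩⟩
  · rcases h1 i j hij with a | a
    · exact absurd a hne
    · exact Or.inl a
  · intro i j _ hne; rwa [h3]

theorem table_G2 : DiagramTable chevG2 := by unfold DiagramTable AdjPerm; decide +kernel
theorem table_B2 : DiagramTable chevB2 := by unfold DiagramTable AdjPerm; decide +kernel
theorem table_F4 : DiagramTable chevF4 := by unfold DiagramTable AdjPerm; decide +kernel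
theorem sl_D4 : SimplyLaced chevD4 := by unfold SimplyLaced; decide +kernel
theorem sl_E6 : SimplyLaced chevE6 := by unfold SimplyLaced; decide +kernel
theorem sl_E7 : SimplyLaced chevE7 := by unfold SimplyLaced; decide +kernel
theorem sl_E8 : SimplyLaced chevE8 := by unfold SimplyLaced; decide +kernel

theorem table_all (D : ChevalleyDatum)
    (hD : D ∈ [chevG2, chevB2, chevD4, chevF4, chevE6, chevE7, chevE8]) : DiagramTable D := by
  simp only [List.mem_cons, List.not_mem_nil, or_false] at hD
  rcases hD with rfl | rfl | rfl | rfl | rfl | rfl | rfl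
  exacts [table_G2, table_B2, table_of_simplyLaced sl_D4, table_F4, table_of_simplyLaced sl_E6,
    table_of_simplyLaced sl_E7, table_of_simplyLaced sl_E8]

/-- Every recorded chain starts with a non-zero coefficient. -/
def headsOK : Bool :=
  (List.range D.nroots).all fun r =>
    (D.chain.getD r #[]).toList.all fun e =>
      match e.2.toList with
      | [] => true
      | km :: _ => decide (km.1 < D.nroots) && decide (km.2 ≠ 0)

theorem headsOK_all (D : ChevalleyDatum)
    (hD : D ∈ [chevG2, chevB2, chevD4, chevF4, chevE6, chevE7, chevE8]) : headsOK D = true := by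
  simp only [List.mem_cons, List.not_mem_nil, or_false] at hD
  rcases hD with rfl | rfl | rfl | rfl | rfl | rfl | rfl <;> decide +kernel

theorem head_spec {D : ChevalleyDatum} (h : headsOK D = true) {r s : ℕ} (hr : r < D.nroots)
    {km : ℕ × ℤ} (he : (D.chainEntry r s)[0]? = some km) : km.1 < D.nroots ∧ km.2 ≠ 0 := by
  unfold ChevalleyDatum.chainEntry at he
  split at he
  next => simp at he
  next e hf =>
    simp only [headsOK, List.all_eq_true] at h
    have hm := h r (List.mem_range.2 hr) e (List.mem_of_find?_eq_some hf)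
    cases hl : e.2.toList with
    | nil => rw [hl] at he; simp at he
    | cons a l =>
      rw [hl] at he hm
      simp only [Bool.and_eq_true, decide_eq_true_eq] at hm
      simp at he
      subst he
      exact hm

end Cfsg.Agent.Lib.ChevAut
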